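import Mathlib
import Groth.Prelude.Def_AlgSt4
import Groth.Agent.Lib.Helper3.UnivInjComp
import Groth.Agent.Lib.Helper3.AlgSt.RepBridge

/-!
# Points of categories over `(Sch/S)`: the bridge with points of sheaves (helper3)
-/

set_option autoImplicit false
universe v₃ u₃ v₂ u₂ u
open CategoryTheory CategoryTheory.Functor CategoryTheory.Limits Opposite AlgebraicGeometry

noncomputable section

namespace Groth.Agent.H3.AlgStPoints

open Groth.Agent.H3.FibCatAux Groth.Agent.H3.FPtRel Groth.Agent.H3.RepBridge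

variable {S : Scheme.{u}}

section Bridge

variable {F G : AlgSp.Sp S}

/-- the field-valued point of the category of a sheaf attached to a field-valued point of the sheaf -/
def fptOf (p : AlgSp.FieldPt F) : AlgSt.FPt (AlgSt.ofSp F) :=
  { K := p.K, str := p.str, obj := ⟨Over.mk p.str, p.val⟩, lies := rfl }

lemma fptOf_rel {p q : AlgSp.FieldPt F} (h : AlgSp.FieldPt.Rel p q) :
    AlgSt.FPt.Rel (fptOf p) (fptOf q) := by
  obtain ⟨Ω, _, w, a, b, hab⟩ := h
  exact ⟨{ K := Ω, str := w, obj := ⟨Over.mk w, F.obj.map a.op p.val⟩, lies := rfl },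
    ⟨a, rfl⟩, ⟨b, hab.symm⟩, trivial⟩

/-- points of a sheaf as points of its category -/
def ptOf : AlgSp.Points F → AlgSt.Points (AlgSt.ofSp F) :=
  Quotient.lift (fun p => AlgSt.Points.mk (fptOf p)) (fun _ _ h => AlgSt.Points.sound (fptOf_rel h))

@[simp] lemma ptOf_mk (p : AlgSp.FieldPt F) : ptOf (AlgSp.Points.mk p) = AlgSt.Points.mk (fptOf p) :=
  rfl

/-- the field-valued point of a sheaf attached to a field-valued point of its category -/
def fieldPtOf (p : AlgSt.FPt (AlgSt.ofSp F)) : AlgSp.FieldPt F :=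
  { K := p.K, str := p.str, val := F.obj.map (eqToHom p.lies.symm).op p.obj.sec }

omit F G in
lemma psh_map_comp_apply {C : Type*} [Category C] (P : Cᵒᵖ ⥤ Type*) {X Y Z : C} (f : X ⟶ Y)
    (g : Y ⟶ Z) (s : P.obj (op Z)) : P.map (f ≫ g).op s = P.map f.op (P.map g.op s) := by
  rw [op_comp, Functor.map_comp]
  rfl

lemma fieldPtOf_val_map (p : AlgSt.FPt (AlgSt.ofSp F)) {T : Over S} (a : T ⟶ p.obj.base) :
    F.obj.map (a ≫ eqToHom p.lies).op (fieldPtOf p).val = F.obj.map a.op p.obj.sec := by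
  obtain ⟨K, str, ⟨B, s⟩, lies⟩ := p
  change B = Over.mk str at lies
  subst lies
  simp [fieldPtOf]
  rfl

lemma fieldPtOf_rel {p q : AlgSt.FPt (AlgSt.ofSp F)} (h : AlgSt.FPt.Rel p q) :
    AlgSp.FieldPt.Rel (fieldPtOf p) (fieldPtOf q) := by
  obtain ⟨r, a, b, -⟩ := h
  let er : Over.mk r.str ⟶ r.obj.base := eqToHom r.lies.symm
  refine ⟨r.K, r.field, r.str, (er ≫ a.hom) ≫ eqToHom p.lies, (er ≫ b.hom) ≫ eqToHom q.lies, ?_⟩
  have ha : F.obj.map a.hom.op p.obj.sec = r.obj.sec := a.map_sec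
  have hb : F.obj.map b.hom.op q.obj.sec = r.obj.sec := b.map_sec
  have h1 : F.obj.map ((er ≫ a.hom) ≫ eqToHom p.lies).op (fieldPtOf p).val =
      F.obj.map er.op r.obj.sec :=
    (fieldPtOf_val_map p (er ≫ a.hom)).trans
      ((psh_map_comp_apply F.obj er a.hom p.obj.sec).trans (congrArg (F.obj.map er.op) ha))
  have h2 : F.obj.map ((er ≫ b.hom) ≫ eqToHom q.lies).op (fieldPtOf q).val =
      F.obj.map er.op r.obj.sec :=
    (fieldPtOf_val_map q (er ≫ b.hom)).trans
      ((psh_map_comp_apply F.obj er b.hom q.obj.sec).trans (congrArg (F.obj.map er.op) hb))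
  exact h1.trans h2.symm

/-- points of the category of a sheaf as points of the sheaf -/
def ptTo : AlgSt.Points (AlgSt.ofSp F) → AlgSp.Points F :=
  Quot.lift (fun p => AlgSp.Points.mk (fieldPtOf p))
    (fun _ _ h => AlgSp.Points.sound (fieldPtOf_rel h))

@[simp] lemma ptTo_mk (p : AlgSt.FPt (AlgSt.ofSp F)) :
    ptTo (AlgSt.Points.mk p) = AlgSp.Points.mk (fieldPtOf p) := rfl

lemma fieldPtOf_fptOf (p : AlgSp.FieldPt F) : fieldPtOf (fptOf p) = p := by
  obtain ⟨K, str, val⟩ := p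
  have h : F.obj.map (eqToHom (rfl : Over.mk str = Over.mk str)).op val = val := by simp
  exact congrArg (fun v => (⟨K, str, v⟩ : AlgSp.FieldPt F)) h

lemma ptTo_ptOf (x : AlgSp.Points F) : ptTo (ptOf x) = x := by
  induction x using AlgSp.Points.ind with | _ p => ?_
  rw [ptOf_mk, ptTo_mk, fieldPtOf_fptOf]

lemma ptOf_ptTo (x : AlgSt.Points (AlgSt.ofSp F)) : ptOf (ptTo x) = x := by
  obtain ⟨p, rfl⟩ := AlgSt.Points.mk_surjective x
  rw [ptTo_mk, ptOf_mk]
  apply AlgSt.Points.sound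
  exact rel_of_hom (p := fptOf (fieldPtOf p)) (q := p) ⟨eqToHom p.lies.symm, rfl⟩

/-- points of a sheaf and points of its category -/
def ptEquiv (F : AlgSp.Sp S) : AlgSp.Points F ≃ AlgSt.Points (AlgSt.ofSp F) where
  toFun := ptOf
  invFun := ptTo
  left_inv := ptTo_ptOf
  right_inv := ptOf_ptTo

lemma ptOf_surjective : Function.Surjective (ptOf (F := F)) := (ptEquiv F).surjective

lemma ptOf_injective : Function.Injective (ptOf (F := F)) := (ptEquiv F).injective

lemma ptOf_map (a : F ⟶ G) (x : AlgSp.Points F) :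
    ptOf (AlgSp.Points.map a x) = AlgSt.Points.map (AlgSt.ofSpMap a) (ptOf x) := by
  induction x using AlgSp.Points.ind with | _ p => ?_
  rfl

lemma ptTo_map (a : F ⟶ G) (x : AlgSt.Points (AlgSt.ofSp F)) :
    ptTo (AlgSt.Points.map (AlgSt.ofSpMap a) x) = AlgSp.Points.map a (ptTo x) := by
  obtain ⟨y, rfl⟩ := ptOf_surjective x
  rw [← ptOf_map, ptTo_ptOf, ptTo_ptOf]

/-- the points of a scheme chart of a sheaf -/
lemma ptOf_ofPt {T : Over S} (g : (AlgSp.yon S).obj T ⟶ F) (t : ↥T.left) :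
    ptOf (AlgSp.Points.ofPt g t) =
      AlgSt.Points.ofChart (BasedFunctor.comp (ofOver T) (AlgSt.ofSpMap g)) t := rfl

end Bridge

end Groth.Agent.H3.AlgStPoints
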