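import Mathlib
import Groth.Agent.Lib.Helper3.AlgSt.Points.Basic

/-!
# Points of scheme charts (helper3)
-/

set_option autoImplicit false
universe v₃ u₃ v₂ u₂ u
open CategoryTheory CategoryTheory.Functor CategoryTheory.Limits Opposite AlgebraicGeometry

noncomputable section

namespace Groth.Agent.H3.AlgStPoints

open Groth.Agent.H3.FibCatAux Groth.Agent.H3.FPtRel Groth.Agent.H3.RepBridge

variable {S : Scheme.{u}} {𝒳 : BasedCategory.{v₂, u₂} (Over S)} {𝒴 : BasedCategory.{v₃, u₃} (Over S)}

/-- the object of `(Sch/U)` given by the residue field of a point -/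
def resObj (U : Over S) (t : ↥U.left) : (FibCat.overCat U).obj :=
  Over.mk (Over.homMk (U.left.fromSpecResidueField t) rfl :
    Over.mk (U.left.fromSpecResidueField t ≫ U.hom) ⟶ U)

/-- the point of `(Sch/U)` attached to a point of `U` -/
def chartPt (U : Over S) (t : ↥U.left) : AlgSt.Points (FibCat.overCat U) :=
  AlgSt.Points.ofChart (BasedFunctor.id (FibCat.overCat U)) t

lemma ofChart_eq_map {U : Over S} (x : FibCat.overCat U ⥤ᵇ 𝒳) (t : ↥U.left) :
    AlgSt.Points.ofChart x t = AlgSt.Points.map x (chartPt U t) := rfl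

lemma ofChart_comp {U : Over S} (x : FibCat.overCat U ⥤ᵇ 𝒳) (f : 𝒳 ⥤ᵇ 𝒴) (t : ↥U.left) :
    AlgSt.Points.ofChart (BasedFunctor.comp x f) t = AlgSt.Points.map f (AlgSt.Points.ofChart x t) :=
  rfl

lemma points_map_congr {f g : 𝒳 ⥤ᵇ 𝒴} (ι : f ≅ g) (x : AlgSt.Points 𝒳) :
    AlgSt.Points.map f x = AlgSt.Points.map g x :=
  points_map_eq_of_pointwise f g (fun a => ⟨ι.hom.toNatTrans.app a⟩) x

lemma ofChart_congr {U : Over S} {x x' : FibCat.overCat U ⥤ᵇ 𝒳} (ι : x ≅ x') (t : ↥U.left) :
    AlgSt.Points.ofChart x t = AlgSt.Points.ofChart x' t := by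
  rw [ofChart_eq_map, ofChart_eq_map, points_map_congr ι]

/-- the morphism of `(Sch/U)` from the residue point of `τ` to the residue point of its image -/
def resHom {T U : Over S} (c : T ⟶ U) (τ : ↥T.left) :
    (AlgSt.overMap c).obj (resObj T τ) ⟶ resObj U (c.left τ) :=
  Over.homMk (Over.homMk (Spec.map (c.left.residueFieldMap τ)) (by
    change Spec.map (c.left.residueFieldMap τ) ≫ U.left.fromSpecResidueField (c.left τ) ≫ U.hom =
      T.left.fromSpecResidueField τ ≫ T.hom
    rw [Scheme.Hom.SpecMap_residueFieldMap_fromSpecResidueField_assoc, Over.w c])) (by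
    apply Over.OverMorphism.ext
    change Spec.map (c.left.residueFieldMap τ) ≫ U.left.fromSpecResidueField (c.left τ) =
      T.left.fromSpecResidueField τ ≫ c.left
    exact Scheme.Hom.SpecMap_residueFieldMap_fromSpecResidueField c.left τ)

lemma chartPt_overMap {T U : Over S} (c : T ⟶ U) (τ : ↥T.left) :
    AlgSt.Points.map (AlgSt.overMap c) (chartPt T τ) = chartPt U (c.left τ) := by
  apply AlgSt.Points.sound
  exact rel_of_hom (resHom c τ)

lemma ofChart_overMap {T U : Over S} (c : T ⟶ U) (x : FibCat.overCat U ⥤ᵇ 𝒳) (τ : ↥T.left) :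
    AlgSt.Points.ofChart (BasedFunctor.comp (AlgSt.overMap c) x) τ =
      AlgSt.Points.ofChart x (c.left τ) := by
  rw [ofChart_eq_map, points_map_comp, chartPt_overMap, ← ofChart_eq_map]

lemma ptOf_ofScheme (U : Over S) (t : ↥U.left) :
    ptOf (AlgSp.Points.ofScheme U t) = AlgSt.Points.map (AlgSt.ofOverCat U) (chartPt U t) := rfl

lemma map_toOver_ofOver (U : Over S) (w : AlgSt.Points (FibCat.overCat U)) :
    AlgSt.Points.map (AlgSt.toOverCat U) (AlgSt.Points.map (AlgSt.ofOverCat U) w) = w := by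
  rw [← points_map_comp]
  exact points_map_id w

lemma chartPt_injective (U : Over S) : Function.Injective (chartPt U) := by
  intro t t' h
  have h1 := congrArg (AlgSt.Points.map (AlgSt.ofOverCat U)) h
  rw [← ptOf_ofScheme, ← ptOf_ofScheme] at h1
  exact (AlgSp.Points.schemeEquiv U).injective (ptOf_injective h1)

lemma chartPt_surjective (U : Over S) : Function.Surjective (chartPt U) := by
  intro w
  obtain ⟨y, hy⟩ := ptOf_surjective (AlgSt.Points.map (AlgSt.ofOverCat U) w)
  obtain ⟨t, rfl⟩ := (AlgSp.Points.schemeEquiv U).surjective y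
  refine ⟨t, ?_⟩
  have h1 : AlgSt.Points.map (AlgSt.ofOverCat U) (chartPt U t) = AlgSt.Points.map (AlgSt.ofOverCat U) w := hy
  have h2 := congrArg (AlgSt.Points.map (AlgSt.toOverCat U)) h1
  rwa [map_toOver_ofOver, map_toOver_ofOver] at h2

/-- the points of `(Sch/U)` are the points of `U` -/
def chartPtEquiv (U : Over S) : ↥U.left ≃ AlgSt.Points (FibCat.overCat U) :=
  Equiv.ofBijective (chartPt U) ⟨chartPt_injective U, chartPt_surjective U⟩

end Groth.Agent.H3.AlgStPoints
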