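import Mathlib
import Groth.Agent.Lib.Helper3.AlgSt.Points.Chart
import Groth.Agent.Lib.Helper3.AlgSt.LocEssSurj
import Groth.Agent.Lib.Helper5.AlgSp.Points

/-!
# Scheme charts of 2-fibre products and points (helper3)
-/

set_option autoImplicit false
universe u
open CategoryTheory CategoryTheory.Functor CategoryTheory.Limits Opposite AlgebraicGeometry

noncomputable section

namespace Groth.Agent.H3.AlgStPoints

open Groth.Agent.H3.FibCatAux Groth.Agent.H3.GerbAux Groth.Agent.H3.FpCalc Groth.Agent.H3.TwoCart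
  Groth.Agent.H3.StackPsh Groth.Agent.H3.PshBridge Groth.Agent.H3.AlgStAux Groth.Agent.H3.RepBridge
  Groth.Agent.H3.SetoidPsh Groth.Agent.H3.BaseChangeSp Groth.Agent.H3.AlgStComp
  Groth.Agent.H3.AlgStProps Groth.Agent.H3.AlgStBridge2 Groth.Agent.H3.AlgStCharts
  Groth.Agent.H3.AlgStDescent Groth.Agent.H3.Whisker Groth.Agent.H3.AlgStLES
  Groth.Agent.H3.FPtRel

variable {S : Scheme.{u}}

/-- a functor `(Sch/T) ⟶ h_T ⟶ G ⟶ (Sch/U)` is the functor of the morphism of schemes it defines -/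
theorem chart_proj_iso {G : AlgSp.Sp S} {T U : Over S} (q : (AlgSp.yon S).obj T ⟶ G)
    (π : AlgSt.ofSp G ⥤ᵇ FibCat.overCat U) (c : T ⟶ U)
    (hc : (AlgSp.yon S).map c = q ≫ AlgSt.spMapOfOver π) :
    Nonempty (BasedFunctor.comp (ofOver T) (BasedFunctor.comp (AlgSt.ofSpMap q) π) ≅
      AlgSt.overMap c) := by
  let Φ : AlgSt.ofSp ((AlgSp.yon S).obj T) ⥤ᵇ FibCat.overCat U :=
    BasedFunctor.comp (AlgSt.ofSpMap q) π
  have hΦ : AlgSt.spMapOfOver Φ = (AlgSp.yon S).map c := by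
    rw [hc]; exact spMapOfOver_ofSpMap_comp q _
  obtain ⟨ι₁⟩ := projIso Φ
  rw [hΦ] at ι₁
  obtain ⟨ι₂⟩ := overMapIso c
  exact ⟨whiskerL (ofOver T) (ι₁ ≪≫ ι₂)⟩

/-- every functor `(Sch/T) ⟶ (Sch/V)` over `(Sch/S)` is the functor of a morphism of schemes -/
theorem exists_overMap_iso {T V : Over S} (t : FibCat.overCat T ⥤ᵇ FibCat.overCat V) :
    ∃ t₀ : T ⟶ V, Nonempty (t ≅ AlgSt.overMap t₀) := by
  obtain ⟨t₀, ht₀⟩ : ∃ t₀ : T ⟶ V, (AlgSp.yon S).map t₀ =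
      𝟙 ((AlgSp.yon S).obj T) ≫ AlgSt.spMapOfOver (BasedFunctor.comp (RepBridge.toOver T) t) :=
    ⟨(AlgSp.yon S).preimage (AlgSt.spMapOfOver (BasedFunctor.comp (RepBridge.toOver T) t)), by
      rw [Functor.map_preimage, Category.id_comp]⟩
  obtain ⟨ι⟩ := chart_proj_iso (𝟙 ((AlgSp.yon S).obj T)) (BasedFunctor.comp (RepBridge.toOver T) t) t₀ ht₀
  exact ⟨t₀, ⟨ι⟩⟩

variable {𝒵 𝒴 : AlgSt.Cat S}

/-- **Scheme charts of a 2-fibre product**, core form. -/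
theorem exists_scheme_chart_fp_core (z : 𝒵 ⥤ᵇ 𝒴) (U : Over S) (y : FibCat.overCat U ⥤ᵇ 𝒴)
    (G : AlgSp.Space S) (e : AlgSt.ofSp G.obj ⥤ᵇ FibCat.fp y z) (he : FibCat.IsEquivOver e) :
    ∃ (T : Over S) (q : (AlgSp.yon S).obj T ⟶ G.obj),
      AlgSp.RepWith @Etale q ∧ AlgSp.RepWith @Surjective q ∧
      ∀ w : AlgSt.Points (FibCat.fp y z), ∃ τ : ↥T.left,
        AlgSt.Points.ofChart
          (BasedFunctor.comp (ofOver T) (BasedFunctor.comp (AlgSt.ofSpMap q) e)) τ = w := by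
  obtain ⟨T, q, hqe, hqs⟩ := G.property.atlas
  refine ⟨T, q, hqe, hqs, ?_⟩
  intro w
  obtain ⟨w', rfl⟩ := isSurjective_of_isEquivOver e he w
  obtain ⟨g', rfl⟩ := ptOf_surjective w'
  obtain ⟨pt, rfl⟩ := Groth.Agent.H5.AlgSp.points_map_surjective_of_repWith hqs g'
  obtain ⟨τ, rfl⟩ := (AlgSp.Points.schemeEquiv T).surjective pt
  refine ⟨τ, ?_⟩
  have h0 : AlgSp.Points.map q ((AlgSp.Points.schemeEquiv T) τ) = AlgSp.Points.ofPt q τ := by
    change AlgSp.Points.map q (AlgSp.Points.ofPt (𝟙 _) τ) = _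
    rw [AlgSp.Points.map_ofPt, Category.id_comp]
  rw [h0]
  rfl

/-- **Scheme charts of a 2-fibre product.**  For `z : 𝒵 ⟶ 𝒴` and a chart `y : (Sch/U) ⟶ 𝒴` such
that `(Sch/U) ×_𝒴 𝒵` is represented by the algebraic space `G`, an etale atlas `T` of `G` gives a
2-commutative square `T ⟶ U`, `T ⟶ 𝒵` which is surjective onto the fibre product of the sets of
points. -/
theorem exists_scheme_chart_fp (h𝒵 : FibCat.IsFibGrpd 𝒵.p) (h𝒴 : FibCat.IsFibGrpd 𝒴.p)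
    (z : 𝒵 ⥤ᵇ 𝒴) (U : Over S) (y : FibCat.overCat U ⥤ᵇ 𝒴) (G : AlgSp.Space S)
    (e : AlgSt.ofSp G.obj ⥤ᵇ FibCat.fp y z) (he : FibCat.IsEquivOver e) :
    ∃ (T : Over S) (q : (AlgSp.yon S).obj T ⟶ G.obj) (c : T ⟶ U) (t : FibCat.overCat T ⥤ᵇ 𝒵),
      AlgSp.RepWith @Etale q ∧ AlgSp.RepWith @Surjective q ∧
      (AlgSp.yon S).map c = q ≫ AlgSt.spMapOfOver (BasedFunctor.comp e (FibCat.fpFst y z)) ∧
      Nonempty (BasedFunctor.comp t z ≅ BasedFunctor.comp (AlgSt.overMap c) y) ∧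
      ∀ (u : ↥U.left) (p : AlgSt.Points 𝒵),
        AlgSt.Points.ofChart y u = AlgSt.Points.map z p →
        ∃ τ : ↥T.left, c.left τ = u ∧ AlgSt.Points.ofChart t τ = p := by
  obtain ⟨T, q, hqe, hqs, hsurj⟩ := exists_scheme_chart_fp_core z U y G e he
  set b := AlgSt.spMapOfOver (BasedFunctor.comp e (FibCat.fpFst y z)) with hb
  obtain ⟨c, hc⟩ : ∃ c : T ⟶ U, (AlgSp.yon S).map c = q ≫ b :=
    ⟨(AlgSp.yon S).preimage (q ≫ b), by simp⟩
  let Ψ : FibCat.overCat T ⥤ᵇ FibCat.fp y z :=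
    BasedFunctor.comp (ofOver T) (BasedFunctor.comp (AlgSt.ofSpMap q) e)
  obtain ⟨i2'⟩ := chart_proj_iso q (BasedFunctor.comp e (FibCat.fpFst y z)) c hc
  let i2 : BasedFunctor.comp Ψ (FibCat.fpFst y z) ≅ AlgSt.overMap c := i2'
  let i1 : BasedFunctor.comp (BasedFunctor.comp Ψ (FibCat.fpFst y z)) y ≅
      BasedFunctor.comp (BasedFunctor.comp Ψ (FibCat.fpSnd y z)) z :=
    whiskerL Ψ (FibCat.fpIso y z)
  refine ⟨T, q, c, BasedFunctor.comp Ψ (FibCat.fpSnd y z), hqe, hqs, hc,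
    ⟨i1.symm ≪≫ whiskerR i2 y⟩, ?_⟩
  intro u p hup
  have hup' : AlgSt.Points.map y (chartPt U u) = AlgSt.Points.map z p := hup
  obtain ⟨w, hw1, hw2⟩ := exists_point_fp h𝒵 h𝒴 (isFibGrpd_overCat U) z y (chartPt U u) p hup'
  obtain ⟨τ, rfl⟩ := hsurj w
  refine ⟨τ, ?_, hw2⟩
  apply chartPt_injective U
  rw [← hw1, ← chartPt_overMap]
  exact (points_map_congr i2 (chartPt T τ)).symm

/-- **Scheme charts of the 2-fibre product of two scheme charts.** -/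
theorem exists_scheme_chart_fp_scheme (h𝒴 : FibCat.IsFibGrpd 𝒴.p) (V : Over S)
    (z : FibCat.overCat V ⥤ᵇ 𝒴) (U : Over S) (y : FibCat.overCat U ⥤ᵇ 𝒴) (G : AlgSp.Space S)
    (e : AlgSt.ofSp G.obj ⥤ᵇ FibCat.fp y z) (he : FibCat.IsEquivOver e) :
    ∃ (T : Over S) (q : (AlgSp.yon S).obj T ⟶ G.obj) (c : T ⟶ U) (t : T ⟶ V),
      AlgSp.RepWith @Etale q ∧ AlgSp.RepWith @Surjective q ∧
      (AlgSp.yon S).map c = q ≫ AlgSt.spMapOfOver (BasedFunctor.comp e (FibCat.fpFst y z)) ∧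
      (AlgSp.yon S).map t = q ≫ AlgSt.spMapOfOver (BasedFunctor.comp e (FibCat.fpSnd y z)) ∧
      Nonempty (BasedFunctor.comp (AlgSt.overMap t) z ≅ BasedFunctor.comp (AlgSt.overMap c) y) ∧
      ∀ (u : ↥U.left) (v : ↥V.left),
        AlgSt.Points.ofChart y u = AlgSt.Points.ofChart z v →
        ∃ τ : ↥T.left, c.left τ = u ∧ t.left τ = v := by
  obtain ⟨T, q, hqe, hqs, hsurj⟩ := exists_scheme_chart_fp_core z U y G e he
  set b := AlgSt.spMapOfOver (BasedFunctor.comp e (FibCat.fpFst y z)) with hb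
  set b' := AlgSt.spMapOfOver (BasedFunctor.comp e (FibCat.fpSnd y z)) with hb'
  obtain ⟨c, hc⟩ : ∃ c : T ⟶ U, (AlgSp.yon S).map c = q ≫ b :=
    ⟨(AlgSp.yon S).preimage (q ≫ b), by simp⟩
  obtain ⟨t, ht⟩ : ∃ t : T ⟶ V, (AlgSp.yon S).map t = q ≫ b' :=
    ⟨(AlgSp.yon S).preimage (q ≫ b'), by simp⟩
  let Ψ : FibCat.overCat T ⥤ᵇ FibCat.fp y z :=
    BasedFunctor.comp (ofOver T) (BasedFunctor.comp (AlgSt.ofSpMap q) e)
  obtain ⟨i2'⟩ := chart_proj_iso q (BasedFunctor.comp e (FibCat.fpFst y z)) c hc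
  obtain ⟨i3'⟩ := chart_proj_iso q (BasedFunctor.comp e (FibCat.fpSnd y z)) t ht
  let i2 : BasedFunctor.comp Ψ (FibCat.fpFst y z) ≅ AlgSt.overMap c := i2'
  let i3 : BasedFunctor.comp Ψ (FibCat.fpSnd y z) ≅ AlgSt.overMap t := i3'
  let i1 : BasedFunctor.comp (BasedFunctor.comp Ψ (FibCat.fpFst y z)) y ≅
      BasedFunctor.comp (BasedFunctor.comp Ψ (FibCat.fpSnd y z)) z :=
    whiskerL Ψ (FibCat.fpIso y z)
  refine ⟨T, q, c, t, hqe, hqs, hc, ht,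
    ⟨(whiskerR i3 z).symm ≪≫ i1.symm ≪≫ whiskerR i2 y⟩, ?_⟩
  intro u v huv
  have huv' : AlgSt.Points.map y (chartPt U u) = AlgSt.Points.map z (chartPt V v) := huv
  obtain ⟨w, hw1, hw2⟩ := exists_point_fp (isFibGrpd_overCat V) h𝒴 (isFibGrpd_overCat U) z y
    (chartPt U u) (chartPt V v) huv'
  obtain ⟨τ, rfl⟩ := hsurj w
  refine ⟨τ, ?_, ?_⟩
  · apply chartPt_injective U
    rw [← hw1, ← chartPt_overMap]
    exact (points_map_congr i2 (chartPt T τ)).symm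
  · apply chartPt_injective V
    rw [← hw2, ← chartPt_overMap]
    exact (points_map_congr i3 (chartPt T τ)).symm

end Groth.Agent.H3.AlgStPoints
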