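import Mathlib
import Groth.Agent.Lib.Helper3.AlgSt.Points.FpChart
import Groth.Agent.Lib.Helper3.AlgSt.PropFacts
import Groth.Agent.Lib.Helper3.AlgSt.StackRep

/-!
# The topology on the points of an algebraic stack (helper3)
-/

set_option autoImplicit false
universe u
open CategoryTheory CategoryTheory.Functor CategoryTheory.Limits Opposite AlgebraicGeometry

noncomputable section

namespace Groth.Agent.H3.AlgStPoints

open Groth.Agent.H3.FibCatAux Groth.Agent.H3.GerbAux Groth.Agent.H3.FpCalc Groth.Agent.H3.TwoCart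
  Groth.Agent.H3.StackPsh Groth.Agent.H3.PshBridge Groth.Agent.H3.AlgStAux Groth.Agent.H3.RepBridge
  Groth.Agent.H3.SetoidPsh Groth.Agent.H3.BaseChangeSp Groth.Agent.H3.AlgStComp
  Groth.Agent.H3.AlgStProps Groth.Agent.H3.AlgStBridge2 Groth.Agent.H3.AlgStCharts
  Groth.Agent.H3.AlgStDescent Groth.Agent.H3.Whisker Groth.Agent.H3.AlgStLES
  Groth.Agent.H3.FPtRel Groth.Agent.H3.AlgStStackRep

variable {S : Scheme.{u}}

section Aux

/-- surjectivity of a scheme chart from surjectivity of the atlas and of the map of spaces -/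
lemma surjective_of_chart {G : AlgSp.Sp S} {T U : Over S} (q : (AlgSp.yon S).obj T ⟶ G)
    (b : G ⟶ (AlgSp.yon S).obj U) (c : T ⟶ U) (hc : (AlgSp.yon S).map c = q ≫ b)
    (hq : AlgSp.RepWith @Surjective q) (hb : AlgSp.IsSurjectiveMor b) :
    Function.Surjective c.left := by
  intro u
  obtain ⟨g, hg⟩ := hb (AlgSp.Points.ofScheme U u)
  obtain ⟨t', ht'⟩ := Groth.Agent.H5.AlgSp.points_map_surjective_of_repWith hq g
  refine ⟨AlgSp.Points.toScheme T t', ?_⟩
  rw [← AlgSp.Points.toScheme_ofPt c (AlgSp.Points.toScheme T t')]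
  have h1 : AlgSp.Points.ofPt ((AlgSp.yon S).map c) (AlgSp.Points.toScheme T t') =
      AlgSp.Points.map ((AlgSp.yon S).map c)
        (AlgSp.Points.ofScheme T (AlgSp.Points.toScheme T t')) := by
    rw [AlgSp.Points.map_ofPt, Category.id_comp]
  rw [h1, AlgSp.Points.ofScheme_toScheme, hc, AlgSp.Points.map_comp, ht', hg,
    AlgSp.Points.toScheme_ofScheme]

/-- a scheme chart inherits the local properties of the map of spaces -/
lemma prop_of_chart {P₀ : MorphismProperty Scheme.{u}} {G : AlgSp.Sp S} {T U : Over S}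
    (q : (AlgSp.yon S).obj T ⟶ G) (b : G ⟶ (AlgSp.yon S).obj U) (c : T ⟶ U)
    (hc : (AlgSp.yon S).map c = q ≫ b) (hq : AlgSp.RepWith @Etale q) (hb : AlgSp.LocP P₀ b) :
    P₀ c.left := by
  have : AlgSp.LocP P₀ ((AlgSp.yon S).map c) := by
    rw [hc]; exact Groth.Agent.H5.AlgSp.locP_comp_etale hq hb
  exact AlgSp.locP_yon_map this

variable {𝒵 𝒴 : AlgSt.Cat S}

/-- the first projection of a chart of `(Sch/U) ×_𝒴 𝒵` has the properties of `z` -/
lemma fst_prop (P : MorphismProperty (AlgSp.Sp S)) (hPb : BaseChangeSp P) (hP : OfCharts P)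
    (z : 𝒵 ⥤ᵇ 𝒴) (hz : AlgSt.RepByAlgSpWith P z) (U : Over S) (y : FibCat.overCat U ⥤ᵇ 𝒴)
    (G : AlgSp.Space S) (e : AlgSt.ofSp G.obj ⥤ᵇ FibCat.fp y z) (he : FibCat.IsEquivOver e) :
    P (AlgSt.spMapOfOver (BasedFunctor.comp e (FibCat.fpFst y z))) :=
  ((repByAlgSpWith_iff_forall P hPb hP z).1 hz).2 U y G e he

/-- the second projection of a chart of `(Sch/U) ×_𝒴 (Sch/V)` has the properties of `y` -/
lemma snd_prop (P : MorphismProperty (AlgSp.Sp S)) (hPb : BaseChangeSp P) (hP : OfCharts P)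
    {V : Over S} (z : FibCat.overCat V ⥤ᵇ 𝒴) (U : Over S) (y : FibCat.overCat U ⥤ᵇ 𝒴)
    (hy : AlgSt.RepByAlgSpWith P y)
    (G : AlgSp.Space S) (e : AlgSt.ofSp G.obj ⥤ᵇ FibCat.fp y z) (he : FibCat.IsEquivOver e) :
    P (AlgSt.spMapOfOver (BasedFunctor.comp e (FibCat.fpSnd y z))) :=
  (repByAlgSpWith_iff_spMapOfOver P hPb hP G _).1
    ((repByAlgSpWith_comp_equiv_iff P e he _).2 (repByAlgSpWith_fpSnd P y z hy))

end Aux

variable {𝒳 𝒴 : AlgSt.Cat S}

/-- the square of points attached to a 2-commutative square of scheme charts -/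
lemma ofChart_square {T U V : Over S} (x : FibCat.overCat U ⥤ᵇ 𝒳) (y : FibCat.overCat V ⥤ᵇ 𝒳)
    (c : T ⟶ U) (t : T ⟶ V)
    (ι : BasedFunctor.comp (AlgSt.overMap t) y ≅ BasedFunctor.comp (AlgSt.overMap c) x)
    (τ : ↥T.left) : AlgSt.Points.ofChart y (t.left τ) = AlgSt.Points.ofChart x (c.left τ) := by
  rw [← ofChart_overMap, ← ofChart_overMap]
  exact ofChart_congr ι τ

/-- **Flat, locally finitely presented scheme charts are open on points.** -/
theorem isOpenMap_ofChart (h𝒳 : FibCat.IsFibGrpd 𝒳.p) (V : Over S) (y : FibCat.overCat V ⥤ᵇ 𝒳)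
    (hy₁ : AlgSt.RepByAlgSpWith (AlgSp.LocP @Flat) y)
    (hy₂ : AlgSt.RepByAlgSpWith (AlgSp.LocP @LocallyOfFinitePresentation) y) :
    IsOpenMap (AlgSt.Points.ofChart y) := by
  intro O hO
  rw [AlgSt.Points.isOpen_iff]
  intro U x _
  obtain ⟨G, e, he, hb1⟩ := hy₁ U x
  have hb2 := fst_prop _ good_lfp.bc good_lfp.toC.charts y hy₂ U x G e he
  obtain ⟨T, q, c, t, hqe, hqs, hc, ht, ⟨ι⟩, hJS⟩ :=
    exists_scheme_chart_fp_scheme h𝒳 V y U x G e he
  have hc1 : Flat c.left := prop_of_chart q _ c hc hqe hb1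
  have hc2 : LocallyOfFinitePresentation c.left := prop_of_chart q _ c hc hqe hb2
  have hopen : IsOpenMap c.left := c.left.isOpenMap
  have key : AlgSt.Points.ofChart x ⁻¹' (AlgSt.Points.ofChart y '' O) =
      c.left '' (t.left ⁻¹' O) := by
    ext u
    constructor
    · rintro ⟨v, hv, hvu⟩
      obtain ⟨τ, hτ1, hτ2⟩ := hJS u v hvu.symm
      exact ⟨τ, by rw [Set.mem_preimage, hτ2]; exact hv, hτ1⟩
    · rintro ⟨τ, hτ, rfl⟩
      exact ⟨t.left τ, hτ, ofChart_square x y c t ι τ⟩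
  rw [key]
  exact hopen _ (hO.preimage t.left.continuous)

/-- **Every scheme chart of an algebraic stack is continuous on points.** -/
theorem continuous_ofChart (h𝒳 : AlgSt.IsAlgStack Scheme.fppfPrecoverage 𝒳) (U : Over S)
    (x : FibCat.overCat U ⥤ᵇ 𝒳) : Continuous (AlgSt.Points.ofChart x) := by
  obtain ⟨V, y, hy₁, hy₂⟩ := h𝒳.atlas
  refine ⟨fun W hW => ?_⟩
  have hWy : IsOpen (AlgSt.Points.ofChart y ⁻¹' W) := hW V y hy₁
  obtain ⟨G, e, he, hb1⟩ := hy₁ U x
  have hb2 := fst_prop _ good_isSurjectiveMor.bc good_isSurjectiveMor.toC.charts y hy₂ U x G e he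
  obtain ⟨T, q, c, t, hqe, hqs, hc, ht, ⟨ι⟩, hJS⟩ :=
    exists_scheme_chart_fp_scheme h𝒳.isStack.1 V y U x G e he
  have hc1 : Smooth c.left := prop_of_chart q _ c hc hqe hb1
  have hc2 : Function.Surjective c.left := surjective_of_chart q _ c hc hqs hb2
  have hopen : IsOpenMap c.left := c.left.isOpenMap
  have key : AlgSt.Points.ofChart x ⁻¹' W =
      c.left '' (t.left ⁻¹' (AlgSt.Points.ofChart y ⁻¹' W)) := by
    ext u
    constructor
    · intro hu
      obtain ⟨τ, rfl⟩ := hc2 u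
      refine ⟨τ, ?_, rfl⟩
      rw [Set.mem_preimage, Set.mem_preimage, ofChart_square x y c t ι τ]
      exact hu
    · rintro ⟨τ, hτ, rfl⟩
      rw [Set.mem_preimage, Set.mem_preimage, ofChart_square x y c t ι τ] at hτ
      exact hτ
  rw [key]
  exact hopen _ (hWy.preimage t.left.continuous)

/-- **S12820**: the map on points of a 1-morphism of algebraic stacks is continuous. -/
theorem continuous_points_map (h𝒴 : AlgSt.IsAlgStack Scheme.fppfPrecoverage 𝒴) (f : 𝒳 ⥤ᵇ 𝒴) :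
    Continuous (AlgSt.Points.map f) := by
  refine ⟨fun W hW => ?_⟩
  rw [AlgSt.Points.isOpen_iff]
  intro U x _
  exact (continuous_ofChart h𝒴 U (BasedFunctor.comp x f)).isOpen_preimage W hW

/-- **S12822** -/
theorem continuous_and_isOpenMap_ofChart (h𝒳 : AlgSt.IsAlgStack Scheme.fppfPrecoverage 𝒳)
    (U : Over S) (x : FibCat.overCat U ⥤ᵇ 𝒳)
    (hx₁ : AlgSt.RepByAlgSpWith (AlgSp.LocP @Flat) x)
    (hx₂ : AlgSt.RepByAlgSpWith (AlgSp.LocP @LocallyOfFinitePresentation) x) :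
    Continuous (AlgSt.Points.ofChart x) ∧ IsOpenMap (AlgSt.Points.ofChart x) :=
  ⟨continuous_ofChart h𝒳 U x, isOpenMap_ofChart h𝒳.isStack.1 U x hx₁ hx₂⟩

end Groth.Agent.H3.AlgStPoints
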