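import Mathlib
import Groth.Agent.Lib.Helper3.AlgSt.Points.Topology
import Groth.Agent.Lib.Helper3.TwoYoneda

/-!
# Surjectivity on points (helper3)
-/

set_option autoImplicit false
universe u
open CategoryTheory CategoryTheory.Functor CategoryTheory.Limits Opposite AlgebraicGeometry

noncomputable section

namespace Groth.Agent.H3.AlgStPoints

open Groth.Agent.H3.FibCatAux Groth.Agent.H3.GerbAux Groth.Agent.H3.FpCalc Groth.Agent.H3.TwoCart
  Groth.Agent.H3.StackPsh Groth.Agent.H3.PshBridge Groth.Agent.H3.AlgStAux Groth.Agent.H3.RepBridge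
  Groth.Agent.H3.SetoidPsh Groth.Agent.H3.BaseChangeSp Groth.Agent.H3.AlgStComp
  Groth.Agent.H3.AlgStProps Groth.Agent.H3.AlgStBridge2 Groth.Agent.H3.AlgStCharts
  Groth.Agent.H3.AlgStDescent Groth.Agent.H3.Whisker Groth.Agent.H3.AlgStLES
  Groth.Agent.H3.FPtRel Groth.Agent.H3.AlgStStackRep Groth.Agent.H3.TwoYoneda

variable {S : Scheme.{u}}

/-- **Bridge**: the map on points of a functor from the category of a sheaf to a slice, in terms of
the map of sheaves it defines. -/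
theorem map_chart {F : AlgSp.Sp S} {U : Over S} (Φ : AlgSt.ofSp F ⥤ᵇ FibCat.overCat U)
    (g : AlgSp.Points F) :
    AlgSt.Points.map Φ (ptOf g) =
      chartPt U (AlgSp.Points.toScheme U (AlgSp.Points.map (AlgSt.spMapOfOver Φ) g)) := by
  obtain ⟨ι⟩ := projIso Φ
  rw [points_map_congr ι]
  change AlgSt.Points.map (BasedFunctor.comp (AlgSt.ofSpMap (AlgSt.spMapOfOver Φ))
    (AlgSt.toOverCat U)) (ptOf g) = _
  rw [points_map_comp, ← ptOf_map]
  set pt := AlgSp.Points.map (AlgSt.spMapOfOver Φ) g with hpt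
  conv_lhs => rw [← AlgSp.Points.ofScheme_toScheme U pt]
  rw [ptOf_ofScheme, map_toOver_ofOver]

variable {𝒳 𝒴 : AlgSt.Cat S}

/-- a 1-morphism all of whose base changes to schemes are surjective is surjective on points -/
theorem isSurjective_of_rep (h𝒴 : FibCat.IsFibGrpd 𝒴.p) (f : 𝒳 ⥤ᵇ 𝒴)
    (hf : AlgSt.RepByAlgSpWith AlgSp.IsSurjectiveMor f) : AlgSt.IsSurjective f := by
  intro p
  obtain ⟨P, rfl⟩ := AlgSt.Points.mk_surjective p
  obtain ⟨U, hU⟩ : ∃ U : Over S, U = Over.mk P.str := ⟨_, rfl⟩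
  obtain ⟨y, hy⟩ := exists_functor_of_obj h𝒴 P.obj (P.lies.trans hU.symm)
  obtain ⟨G, e, he, hb⟩ := hf U y
  have hne : Nonempty ↥U.left := by
    rw [hU]
    exact ⟨IsLocalRing.closedPoint P.K⟩
  obtain ⟨u₀⟩ := hne
  obtain ⟨g, hg⟩ := hb (AlgSp.Points.ofScheme U u₀)
  refine ⟨AlgSt.Points.map (FibCat.fpSnd y f) (AlgSt.Points.map e (ptOf g)), ?_⟩
  rw [← points_map_comp, ← points_map_comp,
    points_map_congr (whiskerL e (FibCat.fpIso y f).symm)]
  change AlgSt.Points.map (BasedFunctor.comp (BasedFunctor.comp e (FibCat.fpFst y f)) y) _ = _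
  rw [points_map_comp, map_chart, hg, AlgSp.Points.toScheme_ofScheme, ← ofChart_eq_map]
  apply AlgSt.Points.sound
  obtain ⟨m⟩ := hy (resObj U u₀)
  exact rel_of_hom (p := ⟨_, _, y.obj (resObj U u₀), y.w_obj _⟩) (q := P) m

/-- a 1-morphism representable by algebraic spaces and surjective on points has surjective base
changes to schemes -/
theorem rep_of_isSurjective (h𝒳 : FibCat.IsFibGrpd 𝒳.p) (h𝒴 : FibCat.IsFibGrpd 𝒴.p) (f : 𝒳 ⥤ᵇ 𝒴)
    (hf : AlgSt.RepByAlgSp1 f) (hs : AlgSt.IsSurjective f) :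
    AlgSt.RepByAlgSpWith AlgSp.IsSurjectiveMor f := by
  intro U y
  obtain ⟨G, e, he⟩ := hf U y
  refine ⟨G, e, he, ?_⟩
  intro pt
  set u := AlgSp.Points.toScheme U pt with hu
  obtain ⟨x, hx⟩ := hs (AlgSt.Points.ofChart y u)
  obtain ⟨w, hw1, -⟩ := exists_point_fp h𝒳 h𝒴 (isFibGrpd_overCat U) f y (chartPt U u) x hx.symm
  obtain ⟨w', rfl⟩ := isSurjective_of_isEquivOver e he w
  obtain ⟨g, rfl⟩ := ptOf_surjective w'
  refine ⟨g, ?_⟩
  rw [← points_map_comp, map_chart] at hw1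
  have h1 := chartPt_injective U hw1
  rw [← AlgSp.Points.ofScheme_toScheme U pt, ← hu, ← h1, AlgSp.Points.ofScheme_toScheme]

/-- **S12819** -/
theorem isSurjective_iff_rep (h𝒳 : FibCat.IsFibGrpd 𝒳.p) (h𝒴 : FibCat.IsFibGrpd 𝒴.p) (f : 𝒳 ⥤ᵇ 𝒴)
    (hf : AlgSt.RepByAlgSp1 f) :
    AlgSt.IsSurjective f ↔ AlgSt.RepByAlgSpWith AlgSp.IsSurjectiveMor f :=
  ⟨rep_of_isSurjective h𝒳 h𝒴 f hf, isSurjective_of_rep h𝒴 f⟩

end Groth.Agent.H3.AlgStPoints
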