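import Mathlib
import Groth.Agent.Lib.Helper3.AlgSt.Points.Surj

/-!
# Charts from algebraic spaces and the topology on points (helper3)
-/

set_option autoImplicit false
universe u
open CategoryTheory CategoryTheory.Functor CategoryTheory.Limits Opposite AlgebraicGeometry

noncomputable section

namespace Groth.Agent.H3.AlgStPoints

open Groth.Agent.H3.FibCatAux Groth.Agent.H3.GerbAux Groth.Agent.H3.FpCalc Groth.Agent.H3.TwoCart
  Groth.Agent.H3.StackPsh Groth.Agent.H3.PshBridge Groth.Agent.H3.AlgStAux Groth.Agent.H3.RepBridge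
  Groth.Agent.H3.SetoidPsh Groth.Agent.H3.BaseChangeSp Groth.Agent.H3.AlgStComp
  Groth.Agent.H3.AlgStProps Groth.Agent.H3.AlgStBridge2 Groth.Agent.H3.AlgStCharts
  Groth.Agent.H3.AlgStDescent Groth.Agent.H3.Whisker Groth.Agent.H3.AlgStLES
  Groth.Agent.H3.FPtRel Groth.Agent.H3.AlgStStackRep Groth.Agent.H3.TwoYoneda

variable {S : Scheme.{u}}

/-- the chart of the category of a sheaf attached to a morphism from a scheme -/
abbrev spChart {A : AlgSp.Sp S} {T : Over S} (q : (AlgSp.yon S).obj T ⟶ A) :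
    FibCat.overCat T ⥤ᵇ AlgSt.ofSp A :=
  BasedFunctor.comp (ofOver T) (AlgSt.ofSpMap q)

/-- a morphism from a scheme to an algebraic space with `P` gives a chart with `P` -/
theorem rep_spChart (P : MorphismProperty (AlgSp.Sp S)) (hPb : BaseChangeSp P) (hP : OfCharts P)
    {A : AlgSp.Sp S} (hA : AlgSp.IsAlgSpace A) {T : Over S} (q : (AlgSp.yon S).obj T ⟶ A)
    (hq : P q) : AlgSt.RepByAlgSpWith P (spChart q) :=
  (repByAlgSpWith_comp_equiv_iff P (ofOver T) (isEquivOver_ofOver T) (AlgSt.ofSpMap q)).2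
    ((repByAlgSpWith_ofPshMap_iff P hPb hP (AlgSp.IsAlgSpace.yon_obj T) hA q).2 hq)

/-- the chart of a surjective morphism from a scheme is surjective on points -/
theorem ofChart_spChart_surjective {A : AlgSp.Sp S} {T : Over S} (q : (AlgSp.yon S).obj T ⟶ A)
    (hq : AlgSp.RepWith @Surjective q) :
    Function.Surjective (AlgSt.Points.ofChart (spChart q)) := by
  intro w
  obtain ⟨g, rfl⟩ := ptOf_surjective w
  obtain ⟨pt, rfl⟩ := Groth.Agent.H5.AlgSp.points_map_surjective_of_repWith hq g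
  obtain ⟨τ, rfl⟩ := (AlgSp.Points.schemeEquiv T).surjective pt
  refine ⟨τ, ?_⟩
  have h0 : AlgSp.Points.map q ((AlgSp.Points.schemeEquiv T) τ) = AlgSp.Points.ofPt q τ := by
    change AlgSp.Points.map q (AlgSp.Points.ofPt (𝟙 _) τ) = _
    rw [AlgSp.Points.map_ofPt, Category.id_comp]
  rw [h0]
  rfl

variable {𝒳 : AlgSt.Cat S}

/-- **S12821** -/
theorem isOpenMap_points_map_space (h𝒳 : FibCat.IsFibGrpd 𝒳.p) (A : AlgSp.Space S)
    (u : AlgSt.ofSp A.obj ⥤ᵇ 𝒳) (hu₁ : AlgSt.RepByAlgSpWith (AlgSp.LocP @Flat) u)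
    (hu₂ : AlgSt.RepByAlgSpWith (AlgSp.LocP @LocallyOfFinitePresentation) u) :
    IsOpenMap (AlgSt.Points.map u) := by
  intro O hO
  obtain ⟨T, q, hqe, hqs⟩ := A.property.atlas
  have hqe' : AlgSp.LocP @Etale q := Groth.Agent.H5.AlgSp.locP_of_repWith le_rfl hqe
  have hsm : AlgSt.RepByAlgSpWith (AlgSp.LocP @Smooth) (spChart q) :=
    rep_spChart _ good_smooth.bc good_smooth.toC.charts A.property q
      (Groth.Agent.H5.AlgSp.locP_mono
        (fun _ _ f hf => by have : Etale f := hf; exact (inferInstance : Smooth f)) hqe')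
  have hfl : AlgSt.RepByAlgSpWith (AlgSp.LocP @Flat) (spChart q) :=
    rep_spChart _ good_flat.bc good_flat.toC.charts A.property q
      (Groth.Agent.H5.AlgSp.locP_mono
        (fun _ _ f hf => by have : Etale f := hf; exact (inferInstance : Flat f)) hqe')
  have hlfp : AlgSt.RepByAlgSpWith (AlgSp.LocP @LocallyOfFinitePresentation) (spChart q) :=
    rep_spChart _ good_lfp.bc good_lfp.toC.charts A.property q
      (Groth.Agent.H5.AlgSp.locP_mono
        (fun _ _ f hf => by
          have : Etale f := hf; exact (inferInstance : LocallyOfFinitePresentation f)) hqe')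
  have hA : FibCat.IsFibGrpd (AlgSt.ofSp A.obj).p := Stk.isFibGrpd_ofPsh _
  have h1 : IsOpen (AlgSt.Points.ofChart (spChart q) ⁻¹' O) := hO T (spChart q) hsm
  have hflat := good_flat.toC.repComp (isFibGrpd_overCat T) hA (spChart q) u hfl hu₁
  have hlfp' := good_lfp.toC.repComp (isFibGrpd_overCat T) hA (spChart q) u hlfp hu₂
  have h2 := isOpenMap_ofChart h𝒳 T (BasedFunctor.comp (spChart q) u) hflat hlfp' _ h1
  have key : AlgSt.Points.map u '' O =
      AlgSt.Points.ofChart (BasedFunctor.comp (spChart q) u) ''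
        (AlgSt.Points.ofChart (spChart q) ⁻¹' O) := by
    ext w
    constructor
    · rintro ⟨o, ho, rfl⟩
      obtain ⟨τ, rfl⟩ := ofChart_spChart_surjective q hqs o
      exact ⟨τ, ho, rfl⟩
    · rintro ⟨τ, hτ, rfl⟩
      exact ⟨_, hτ, rfl⟩
  rw [key]
  exact h2

/-- **S12823** -/
theorem isOpen_iff_preimage_space (h𝒳 : AlgSt.IsAlgStack Scheme.fppfPrecoverage 𝒳)
    (A : AlgSp.Space S) (p : AlgSt.ofSp A.obj ⥤ᵇ 𝒳)
    (hp₁ : AlgSt.RepByAlgSpWith (AlgSp.LocP @Flat) p)
    (hp₂ : AlgSt.RepByAlgSpWith (AlgSp.LocP @LocallyOfFinitePresentation) p)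
    (hp₃ : AlgSt.RepByAlgSpWith AlgSp.IsSurjectiveMor p) (W : Set (AlgSt.Points 𝒳)) :
    IsOpen W ↔ IsOpen (AlgSt.Points.map p ⁻¹' W) := by
  constructor
  · exact fun hW => (continuous_points_map h𝒳 p).isOpen_preimage W hW
  · intro hW
    have hs : Function.Surjective (AlgSt.Points.map p) := isSurjective_of_rep h𝒳.isStack.1 p hp₃
    rw [← Set.image_preimage_eq W hs]
    exact isOpenMap_points_map_space h𝒳.isStack.1 A p hp₁ hp₂ _ hW

end Groth.Agent.H3.AlgStPoints
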