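import Mathlib
import Groth.Agent.Lib.Helper3.AlgSt.Points.SpaceChart
import Groth.Agent.Lib.Helper3.AlgSt.DiagLft

/-!
# Quasi-compact algebraic stacks and their spaces of points (helper3)
-/

set_option autoImplicit false
universe u
open CategoryTheory CategoryTheory.Functor CategoryTheory.Limits Opposite AlgebraicGeometry

noncomputable section

namespace Groth.Agent.H3.AlgStPoints

open Groth.Agent.H3.FibCatAux Groth.Agent.H3.GerbAux Groth.Agent.H3.FpCalc Groth.Agent.H3.TwoCart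
  Groth.Agent.H3.StackPsh Groth.Agent.H3.PshBridge Groth.Agent.H3.AlgStAux Groth.Agent.H3.RepBridge
  Groth.Agent.H3.SetoidPsh Groth.Agent.H3.BaseChangeSp Groth.Agent.H3.AlgStComp
  Groth.Agent.H3.AlgStProps Groth.Agent.H3.AlgStBridge2 Groth.Agent.H3.AlgStCharts
  Groth.Agent.H3.AlgStDescent Groth.Agent.H3.Whisker Groth.Agent.H3.AlgStLES
  Groth.Agent.H3.FPtRel Groth.Agent.H3.AlgStStackRep Groth.Agent.H3.TwoYoneda

variable {S : Scheme.{u}}

/-- the functor of a morphism of schemes with `P₀` is representable by algebraic spaces with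
`LocP P₀` -/
theorem rep_overMap {P₀ : MorphismProperty Scheme.{u}} [P₀.IsStableUnderBaseChange]
    [P₀.IsStableUnderComposition] [Groth.Agent.H5.EtSrc.IsEtaleLocalSource P₀]
    (hle : (@Etale : MorphismProperty Scheme.{u}) ≤ P₀) (hg : Good (AlgSp.LocP (S := S) P₀))
    {T U : Over S} (c : T ⟶ U) (hc : P₀ c.left) :
    AlgSt.RepByAlgSpWith (AlgSp.LocP P₀) (AlgSt.overMap c) := by
  obtain ⟨ι⟩ := overMapIso c
  have h1 : AlgSt.RepByAlgSpWith (AlgSp.LocP P₀) (Stk.ofPshMap ((AlgSp.yon S).map c).hom) :=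
    (repByAlgSpWith_ofPshMap_iff _ hg.bc hg.toC.charts (AlgSp.IsAlgSpace.yon_obj T)
      (AlgSp.IsAlgSpace.yon_obj U) ((AlgSp.yon S).map c)).2
      ((Groth.Agent.H5.AlgSp.locP_yon_map_iff hle c).2 hc)
  exact repByAlgSpWith_of_square' _ (AlgSt.overMap c) (Stk.ofPshMap ((AlgSp.yon S).map c).hom)
    (toOver T) (toOver U) (isEquivOver_toOver T) (isEquivOver_toOver U) ι h1

variable {𝒳 𝒴 : AlgSt.Cat S}

/-- the points map of a smooth surjective scheme chart is surjective -/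
lemma ofChart_surjective (h𝒳 : FibCat.IsFibGrpd 𝒳.p) {U : Over S} (x : FibCat.overCat U ⥤ᵇ 𝒳)
    (hx : AlgSt.RepByAlgSpWith AlgSp.IsSurjectiveMor x) :
    Function.Surjective (AlgSt.Points.ofChart x) := by
  intro p
  obtain ⟨w, rfl⟩ := isSurjective_of_rep h𝒳 x hx p
  obtain ⟨u, rfl⟩ := chartPt_surjective U w
  exact ⟨u, rfl⟩

/-- a quasi-compact algebraic stack has a quasi-compact space of points -/
theorem compactSpace_of_chart (h𝒳 : AlgSt.IsAlgStack Scheme.fppfPrecoverage 𝒳) {U : Over S}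
    (x : FibCat.overCat U ⥤ᵇ 𝒳) [CompactSpace ↥U.left]
    (hx : AlgSt.RepByAlgSpWith AlgSp.IsSurjectiveMor x) : CompactSpace (AlgSt.Points 𝒳) := by
  refine ⟨?_⟩
  rw [← (ofChart_surjective h𝒳.isStack.1 x hx).range_eq]
  exact isCompact_range (continuous_ofChart h𝒳 U x)

/-- the disjoint union of finitely many affine opens, over the base -/
theorem exists_affine_chart_of_finite {V : Over S} (t : Finset V.left.Opens)
    (ht : ∀ W ∈ t, IsAffineOpen W) :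
    ∃ (U : Over S) (j : U ⟶ V), IsAffine U.left ∧ Smooth j.left ∧
      Set.range j.left = ⋃ W ∈ t, (W : Set V.left) := by
  let g : ↥t → Scheme.{u} := fun i => (i.1 : Scheme.{u})
  let f : ∀ i : ↥t, g i ⟶ V.left := fun i => i.1.ι
  have hga : ∀ i : ↥t, IsAffine (g i) := fun i => ht i.1 i.2
  let j : (∐ g) ⟶ V.left := Sigma.desc f
  have hj : Smooth j := IsZariskiLocalAtSource.sigmaDesc (P := @Smooth) (fun i => inferInstance)
  refine ⟨Over.mk (j ≫ V.hom), Over.homMk j rfl, inferInstanceAs (IsAffine (∐ g)), hj, ?_⟩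
  change Set.range j = _
  ext v
  simp only [Set.mem_range, Set.mem_iUnion, SetLike.mem_coe]
  constructor
  · rintro ⟨z, rfl⟩
    obtain ⟨i, y, rfl⟩ := (sigmaOpenCover g).exists_eq z
    refine ⟨i.1, i.2, ?_⟩
    have h1 : (Sigma.ι g i ≫ j) y = (f i) y := by rw [Sigma.ι_desc]
    rw [Scheme.Hom.comp_apply] at h1
    change j ((Sigma.ι g i) y) ∈ i.1
    rw [h1]
    exact y.2
  · rintro ⟨W, hW, hv⟩
    refine ⟨(Sigma.ι g ⟨W, hW⟩) ⟨v, hv⟩, ?_⟩
    have h1 : (Sigma.ι g ⟨W, hW⟩ ≫ j) ⟨v, hv⟩ = (f ⟨W, hW⟩) ⟨v, hv⟩ := by rw [Sigma.ι_desc]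
    rw [Scheme.Hom.comp_apply] at h1
    rw [h1]
    rfl

/-- **Key lemma**: an algebraic stack with quasi-compact space of points is quasi-compact. -/
theorem isQuasiCompact_of_compactSpace (h𝒳 : AlgSt.IsAlgStack Scheme.fppfPrecoverage 𝒳)
    [CompactSpace (AlgSt.Points 𝒳)] : AlgSt.IsQuasiCompact 𝒳 := by
  classical
  obtain ⟨V, y, hy₁, hy₂⟩ := h𝒳.atlas
  have hX := h𝒳.isStack.1
  have hflat : AlgSt.RepByAlgSpWith (AlgSp.LocP @Flat) y :=
    AlgStDiagLft.repByAlgSpWith_mono (AlgStDiagLft.locP_mono AlgStDiagLft.smooth_le_flat) hy₁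
  have hlfp : AlgSt.RepByAlgSpWith (AlgSp.LocP @LocallyOfFinitePresentation) y :=
    AlgStDiagLft.repByAlgSpWith_mono (AlgStDiagLft.locP_mono AlgStDiagLft.smooth_le_lfp) hy₁
  have hopen := isOpenMap_ofChart hX V y hflat hlfp
  have hsurj := ofChart_surjective hX y hy₂
  let B : Set V.left.Opens := {W | IsAffineOpen W}
  have hcov : (Set.univ : Set (AlgSt.Points 𝒳)) ⊆
      ⋃ W : B, AlgSt.Points.ofChart y '' (W.1 : Set V.left) := by
    intro p _
    obtain ⟨v, rfl⟩ := hsurj p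
    obtain ⟨_, ⟨W, hW, rfl⟩, hv, -⟩ := V.left.isBasis_affineOpens.exists_subset_of_mem_open
      (Set.mem_univ v) isOpen_univ
    exact Set.mem_iUnion.2 ⟨⟨W, hW⟩, v, hv, rfl⟩
  obtain ⟨t, ht⟩ := isCompact_univ.elim_finite_subcover _
    (fun W : B => hopen _ W.1.2) hcov
  obtain ⟨U, j, hUa, hjs, hjr⟩ := exists_affine_chart_of_finite (t.image Subtype.val) (by
    intro W hW
    obtain ⟨W', -, rfl⟩ := Finset.mem_image.1 hW
    exact W'.2)
  have hsm : AlgSt.RepByAlgSpWith (AlgSp.LocP @Smooth) (BasedFunctor.comp (AlgSt.overMap j) y) :=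
    good_smooth.toC.repComp (isFibGrpd_overCat U) (isFibGrpd_overCat V) _ _
      (rep_overMap Groth.Agent.H3.AlgSpCov.etale_le_smooth good_smooth j hjs) hy₁
  refine ⟨U, BasedFunctor.comp (AlgSt.overMap j) y, hUa, hsm, ?_⟩
  apply rep_of_isSurjective (isFibGrpd_overCat U) hX _ (repByAlgSp1_of_repByAlgSpWith hsm)
  intro p
  obtain ⟨i, hi⟩ := Set.mem_iUnion.1 (ht (Set.mem_univ p))
  obtain ⟨hi', v, hv, rfl⟩ : ∃ _ : i ∈ t, p ∈ AlgSt.Points.ofChart y '' (i.1 : Set V.left) := by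
    simpa using hi
  have hvr : v ∈ Set.range j.left := by
    rw [hjr]
    simp only [Set.mem_iUnion]
    exact ⟨i.1, Finset.mem_image.2 ⟨i, hi', rfl⟩, hv⟩
  obtain ⟨τ, rfl⟩ := hvr
  refine ⟨chartPt U τ, ?_⟩
  rw [← ofChart_eq_map, ofChart_overMap]

/-- **S12847** -/
theorem isQuasiCompact_iff_compactSpace (h𝒳 : AlgSt.IsAlgStack Scheme.fppfPrecoverage 𝒳) :
    AlgSt.IsQuasiCompact 𝒳 ↔ CompactSpace (AlgSt.Points 𝒳) := by
  constructor
  · rintro ⟨U, x, hUa, -, hx2⟩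
    exact compactSpace_of_chart h𝒳 x hx2
  · intro h
    exact isQuasiCompact_of_compactSpace h𝒳

/-- **S12857** -/
theorem isQuasiCompact_iff_exists_compact_chart (h𝒳 : AlgSt.IsAlgStack Scheme.fppfPrecoverage 𝒳) :
    AlgSt.IsQuasiCompact 𝒳 ↔
      ∃ (U : Over S) (x : FibCat.overCat U ⥤ᵇ 𝒳), CompactSpace ↥U.left ∧
        AlgSt.RepByAlgSpWith (AlgSp.LocP @Smooth) x ∧
          AlgSt.RepByAlgSpWith AlgSp.IsSurjectiveMor x := by
  constructor
  · rintro ⟨U, x, hUa, hx1, hx2⟩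
    exact ⟨U, x, inferInstance, hx1, hx2⟩
  · rintro ⟨U, x, hUc, -, hx2⟩
    have := compactSpace_of_chart h𝒳 x hx2
    exact isQuasiCompact_of_compactSpace h𝒳

/-- **S12858** -/
theorem isQuasiCompact_of_isSurjective {𝒰 : AlgSt.Cat S}
    (h𝒰 : AlgSt.IsAlgStack Scheme.fppfPrecoverage 𝒰)
    (h𝒳 : AlgSt.IsAlgStack Scheme.fppfPrecoverage 𝒳) (f : 𝒰 ⥤ᵇ 𝒳) (hf : AlgSt.IsSurjective f)
    (h𝒰' : AlgSt.IsQuasiCompact 𝒰) : AlgSt.IsQuasiCompact 𝒳 := by
  have := (isQuasiCompact_iff_compactSpace h𝒰).1 h𝒰'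
  have : CompactSpace (AlgSt.Points 𝒳) := by
    refine ⟨?_⟩
    rw [← hf.range_eq]
    exact isCompact_range (continuous_points_map h𝒳 f)
  exact isQuasiCompact_of_compactSpace h𝒳

/-- **S12856** -/
theorem isQuasiCompact_iff_exists_space_chart (h𝒳 : AlgSt.IsAlgStack Scheme.fppfPrecoverage 𝒳) :
    AlgSt.IsQuasiCompact 𝒳 ↔
      ∃ (U : AlgSp.Space S) (x : AlgSt.ofSp U.obj ⥤ᵇ 𝒳), AlgSp.IsQuasiCompactSp U.obj ∧
        AlgSt.RepByAlgSpWith (AlgSp.LocP @Smooth) x ∧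
          AlgSt.RepByAlgSpWith AlgSp.IsSurjectiveMor x := by
  constructor
  · rintro ⟨U, x, hUa, hx1, hx2⟩
    refine ⟨⟨(AlgSp.yon S).obj U, AlgSp.IsAlgSpace.yon_obj U⟩, BasedFunctor.comp (toOver U) x,
      (Groth.Agent.H5.AlgSp.isQuasiCompactSp_yon_iff U).2 inferInstance, ?_, ?_⟩
    · exact (repByAlgSpWith_comp_equiv_iff _ (toOver U) (isEquivOver_toOver U) x).2 hx1
    · exact (repByAlgSpWith_comp_equiv_iff _ (toOver U) (isEquivOver_toOver U) x).2 hx2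
  · rintro ⟨A, x, ⟨T, q, hqe, hqs, hT⟩, hx1, hx2⟩
    have hX := h𝒳.isStack.1
    have hA : FibCat.IsFibGrpd (AlgSt.ofSp A.obj).p := Stk.isFibGrpd_ofPsh _
    have hqe' : AlgSp.LocP @Etale q := Groth.Agent.H5.AlgSp.locP_of_repWith le_rfl hqe
    have hsm : AlgSt.RepByAlgSpWith (AlgSp.LocP @Smooth) (spChart q) :=
      rep_spChart _ good_smooth.bc good_smooth.toC.charts A.property q
        (Groth.Agent.H5.AlgSp.locP_mono Groth.Agent.H3.AlgSpCov.etale_le_smooth hqe')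
    have h1 := good_smooth.toC.repComp (isFibGrpd_overCat T) hA (spChart q) x hsm hx1
    have h2 : AlgSt.RepByAlgSpWith AlgSp.IsSurjectiveMor (BasedFunctor.comp (spChart q) x) := by
      apply rep_of_isSurjective (isFibGrpd_overCat T) hX _ (repByAlgSp1_of_repByAlgSpWith h1)
      intro p
      obtain ⟨w, rfl⟩ := isSurjective_of_rep hX x hx2 p
      obtain ⟨τ, rfl⟩ := ofChart_spChart_surjective q hqs w
      exact ⟨chartPt T τ, rfl⟩
    have : CompactSpace ↥T.left := hT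
    exact (isQuasiCompact_iff_exists_compact_chart h𝒳).2 ⟨T, _, hT, h1, h2⟩

/-- **S12824** -/
theorem exists_isOpen_isCompact_nhd (h𝒳 : AlgSt.IsAlgStack Scheme.fppfPrecoverage 𝒳)
    (x : AlgSt.Points 𝒳) (W : Set (AlgSt.Points 𝒳)) (hW : IsOpen W) (hx : x ∈ W) :
    ∃ V : Set (AlgSt.Points 𝒳), IsOpen V ∧ IsCompact V ∧ x ∈ V ∧ V ⊆ W := by
  obtain ⟨V, y, hy₁, hy₂⟩ := h𝒳.atlas
  have hX := h𝒳.isStack.1
  have hflat : AlgSt.RepByAlgSpWith (AlgSp.LocP @Flat) y :=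
    AlgStDiagLft.repByAlgSpWith_mono (AlgStDiagLft.locP_mono AlgStDiagLft.smooth_le_flat) hy₁
  have hlfp : AlgSt.RepByAlgSpWith (AlgSp.LocP @LocallyOfFinitePresentation) y :=
    AlgStDiagLft.repByAlgSpWith_mono (AlgStDiagLft.locP_mono AlgStDiagLft.smooth_le_lfp) hy₁
  have hopen := isOpenMap_ofChart hX V y hflat hlfp
  have hcont := continuous_ofChart h𝒳 V y
  obtain ⟨v, rfl⟩ := ofChart_surjective hX y hy₂ x
  obtain ⟨_, ⟨V₀, hV₀, rfl⟩, hv, hsub⟩ := V.left.isBasis_affineOpens.exists_subset_of_mem_open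
    (show v ∈ AlgSt.Points.ofChart y ⁻¹' W from hx) (hcont.isOpen_preimage W hW)
  refine ⟨AlgSt.Points.ofChart y '' (V₀ : Set V.left), hopen _ V₀.2,
    hV₀.isCompact.image hcont, ⟨v, hv, rfl⟩, ?_⟩
  rintro _ ⟨v', hv', rfl⟩
  exact hsub hv'

end Groth.Agent.H3.AlgStPoints
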