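import Mathlib
import Groth.Agent.Lib.Helper3.AlgSt.Points.QuasiCompact
import Groth.Agent.Lib.Helper3.AlgSt.SpaceDM
import Groth.Agent.Lib.Helper3.AlgSt.Algebraic

/-!
# The points of an algebraic space, as a sheaf and as a stack, are homeomorphic (helper3)

* `isAlgStack_ofSp` : the category of an algebraic space is an algebraic stack;
* `ptHomeo` : `AlgSp.Points F ≃ₜ AlgSt.Points (ofSp F)` for an algebraic space `F`;
* `pointsHomeoOfEquiv` : an equivalence of algebraic stacks is a homeomorphism on points.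
-/

set_option autoImplicit false
universe u
open CategoryTheory CategoryTheory.Functor CategoryTheory.Limits Opposite AlgebraicGeometry

noncomputable section

namespace Groth.Agent.H3.AlgStPoints

open Groth.Agent.H3.FibCatAux Groth.Agent.H3.GerbAux Groth.Agent.H3.FpCalc Groth.Agent.H3.TwoCart
  Groth.Agent.H3.StackPsh Groth.Agent.H3.PshBridge Groth.Agent.H3.AlgStAux Groth.Agent.H3.RepBridge
  Groth.Agent.H3.SetoidPsh Groth.Agent.H3.BaseChangeSp Groth.Agent.H3.AlgStComp
  Groth.Agent.H3.AlgStProps Groth.Agent.H3.AlgStBridge2 Groth.Agent.H3.AlgStCharts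
  Groth.Agent.H3.AlgStDescent Groth.Agent.H3.Whisker Groth.Agent.H3.AlgStLES
  Groth.Agent.H3.FPtRel Groth.Agent.H3.AlgStStackRep Groth.Agent.H3.TwoYoneda

variable {S : Scheme.{u}}

/-- the category of an algebraic space is an algebraic stack -/
theorem isAlgStack_ofSp (F : AlgSp.Space S) :
    AlgSt.IsAlgStack Scheme.fppfPrecoverage (AlgSt.ofSp F.obj) :=
  (Groth.Agent.H3.AlgStSpaceDM.isDM_ofSp F).1

/-- every scheme chart of the category of a sheaf comes from a section -/
lemma exists_spChart_iso {F : AlgSp.Sp S} {U : Over S} (x : FibCat.overCat U ⥤ᵇ AlgSt.ofSp F) :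
    ∃ g : (AlgSp.yon S).obj U ⟶ F, ∀ t : ↥U.left,
      AlgSt.Points.ofChart x t = AlgSt.Points.ofChart (spChart g) t := by
  obtain ⟨ι⟩ := iso_ofPshMap_pshMapOf (BasedFunctor.comp (toOver U) x)
  refine ⟨ObjectProperty.homMk (pshMapOf (BasedFunctor.comp (toOver U) x)), fun t => ?_⟩
  have h1 : AlgSt.Points.ofChart x t =
      AlgSt.Points.map (BasedFunctor.comp (toOver U) x) (AlgSt.Points.ofChart (ofOver U) t) := rfl
  rw [h1, points_map_congr ι]
  rfl

/-- `ptOf` is continuous for an algebraic space -/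
theorem continuous_ptOf (F : AlgSp.Space S) : Continuous (ptOf (F := F.obj)) := by
  refine ⟨fun W hW => ?_⟩
  rw [AlgSp.Points.isOpen_iff]
  intro T g
  have h1 : AlgSp.Points.ofPt g ⁻¹' (ptOf ⁻¹' W) = AlgSt.Points.ofChart (spChart g) ⁻¹' W := rfl
  rw [h1]
  exact (continuous_ofChart (isAlgStack_ofSp F) T (spChart g)).isOpen_preimage W hW

/-- `ptOf` is open (for any sheaf) -/
theorem isOpenMap_ptOf (F : AlgSp.Sp S) : IsOpenMap (ptOf (F := F)) := by
  intro V hV
  rw [AlgSt.Points.isOpen_iff]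
  intro U x _
  obtain ⟨g, hg⟩ := exists_spChart_iso x
  have h1 : AlgSt.Points.ofChart x ⁻¹' (ptOf '' V) = AlgSp.Points.ofPt g ⁻¹' V := by
    ext t
    simp only [Set.mem_preimage, Set.mem_image]
    rw [hg t]
    constructor
    · rintro ⟨v, hv, hvt⟩
      have : v = AlgSp.Points.ofPt g t := ptOf_injective hvt
      rwa [← this]
    · intro h
      exact ⟨_, h, rfl⟩
  rw [h1]
  exact AlgSp.Points.isOpen_iff.1 hV U g

/-- the points of an algebraic space, as a sheaf and as a stack -/
def ptHomeo (F : AlgSp.Space S) : AlgSp.Points F.obj ≃ₜ AlgSt.Points (AlgSt.ofSp F.obj) :=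
  (ptEquiv F.obj).toHomeomorphOfContinuousOpen (continuous_ptOf F) (isOpenMap_ptOf F.obj)

@[simp] lemma ptHomeo_apply (F : AlgSp.Space S) (x : AlgSp.Points F.obj) : ptHomeo F x = ptOf x := rfl

variable {𝒳 𝒴 : AlgSt.Cat S}

/-- an equivalence of algebraic stacks is a homeomorphism on points -/
theorem isHomeomorph_of_isEquivOver (h𝒳 : AlgSt.IsAlgStack Scheme.fppfPrecoverage 𝒳)
    (h𝒴 : AlgSt.IsAlgStack Scheme.fppfPrecoverage 𝒴) (e : 𝒳 ⥤ᵇ 𝒴) (he : FibCat.IsEquivOver e) :
    IsHomeomorph (AlgSt.Points.map e) := by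
  obtain ⟨e', ⟨α⟩, ⟨β⟩⟩ := he
  have h1 : ∀ x, AlgSt.Points.map e' (AlgSt.Points.map e x) = x := fun x => by
    rw [← points_map_comp, points_map_congr α, points_map_id]
  have h2 : ∀ y, AlgSt.Points.map e (AlgSt.Points.map e' y) = y := fun y => by
    rw [← points_map_comp, points_map_congr β, points_map_id]
  let E : AlgSt.Points 𝒳 ≃ₜ AlgSt.Points 𝒴 :=
    { toFun := AlgSt.Points.map e
      invFun := AlgSt.Points.map e'
      left_inv := h1
      right_inv := h2
      continuous_toFun := continuous_points_map h𝒴 e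
      continuous_invFun := continuous_points_map h𝒳 e' }
  exact E.isHomeomorph

end Groth.Agent.H3.AlgStPoints
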