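import Mathlib
import Groth.Agent.Lib.Helper3.AlgSt.Points.Homeo

/-!
# Universally open / closed / injective / submersive / homeomorphic 1-morphisms (helper3)

For `f : 𝒳 ⟶ 𝒴` representable by algebraic spaces between algebraic stacks and a property `Qt` of
maps of topological spaces that descends along open surjections (`TopDesc`),
`RepByAlgSpWith (UnivSp Qt) f ↔ ∀ 𝒵 g, Qt |𝒵 ×_𝒴 𝒳 → 𝒵|`.
-/

set_option autoImplicit false
universe u
open CategoryTheory CategoryTheory.Functor CategoryTheory.Limits Opposite AlgebraicGeometry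

noncomputable section

namespace Groth.Agent.H3.AlgStPoints

open Groth.Agent.H3.FibCatAux Groth.Agent.H3.GerbAux Groth.Agent.H3.FpCalc Groth.Agent.H3.TwoCart
  Groth.Agent.H3.StackPsh Groth.Agent.H3.PshBridge Groth.Agent.H3.AlgStAux Groth.Agent.H3.RepBridge
  Groth.Agent.H3.SetoidPsh Groth.Agent.H3.BaseChangeSp Groth.Agent.H3.AlgStComp
  Groth.Agent.H3.AlgStProps Groth.Agent.H3.AlgStBridge2 Groth.Agent.H3.AlgStCharts
  Groth.Agent.H3.AlgStDescent Groth.Agent.H3.Whisker Groth.Agent.H3.AlgStLES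
  Groth.Agent.H3.FPtRel Groth.Agent.H3.AlgStStackRep Groth.Agent.H3.TwoYoneda

/-- a property of maps of topological spaces -/
abbrev TopProp := ∀ (X Y : Type (u + 1)) [TopologicalSpace X] [TopologicalSpace Y], (X → Y) → Prop

/-- a property of maps of topological spaces that is invariant under homeomorphisms and descends
along squares whose horizontal maps are continuous open surjections and which are surjective on
fibre products -/
structure TopDesc (Qt : TopProp.{u}) : Prop where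
  homeo : ∀ {X Y X' Y' : Type (u + 1)} [TopologicalSpace X] [TopologicalSpace Y]
    [TopologicalSpace X'] [TopologicalSpace Y'] (hX : X ≃ₜ X') (hY : Y ≃ₜ Y') (f : X → Y)
    (f' : X' → Y'), (∀ x, f' (hX x) = hY (f x)) → Qt X Y f → Qt X' Y' f'
  desc : ∀ {X Y X' Y' : Type (u + 1)} [TopologicalSpace X] [TopologicalSpace Y]
    [TopologicalSpace X'] [TopologicalSpace Y'] (a : X' → X) (b : Y' → Y) (f' : X' → Y')
    (f : X → Y), Continuous a → IsOpenMap a → Function.Surjective a → Continuous b → IsOpenMap b →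
    Function.Surjective b → Continuous f → (∀ x', f (a x') = b (f' x')) →
    (∀ x y', f x = b y' → ∃ x', a x' = x ∧ f' x' = y') → Qt X' Y' f' → Qt X Y f

section Top

variable {X Y X' Y' : Type (u + 1)}

lemma preimage_image_of_square (a : X' → X) (b : Y' → Y) (f' : X' → Y') (f : X → Y)
    (hc : ∀ x', f (a x') = b (f' x'))
    (hs : ∀ x y', f x = b y' → ∃ x', a x' = x ∧ f' x' = y') (W : Set X) :
    b ⁻¹' (f '' W) = f' '' (a ⁻¹' W) := by
  ext y'
  simp only [Set.mem_preimage, Set.mem_image]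
  constructor
  · rintro ⟨x, hx, hxy⟩
    obtain ⟨x', rfl, rfl⟩ := hs x y' hxy
    exact ⟨x', hx, rfl⟩
  · rintro ⟨x', hx', rfl⟩
    exact ⟨a x', hx', hc x'⟩

theorem topDesc_isOpenMap : TopDesc.{u} (fun X Y _ _ f => IsOpenMap f) where
  homeo := by
    intro X Y X' Y' _ _ _ _ hX hY f f' h hf
    have : f' = hY ∘ f ∘ hX.symm := by
      funext x'
      have := h (hX.symm x')
      simpa using this
    rw [this]
    exact hY.isOpenMap.comp (hf.comp hX.symm.isOpenMap)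
  desc := by
    intro X Y X' Y' _ _ _ _ a b f' f ha _ _ hb hbo hbs _ hc hs hf' W hW
    have hq : Topology.IsQuotientMap b := hbo.isQuotientMap hb hbs
    rw [← hq.isOpen_preimage, preimage_image_of_square a b f' f hc hs]
    exact hf' _ (ha.isOpen_preimage W hW)

theorem topDesc_isClosedMap : TopDesc.{u} (fun X Y _ _ f => IsClosedMap f) where
  homeo := by
    intro X Y X' Y' _ _ _ _ hX hY f f' h hf
    have : f' = hY ∘ f ∘ hX.symm := by
      funext x'
      have := h (hX.symm x')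
      simpa using this
    rw [this]
    exact hY.isClosedMap.comp (hf.comp hX.symm.isClosedMap)
  desc := by
    intro X Y X' Y' _ _ _ _ a b f' f ha _ _ hb hbo hbs _ hc hs hf' W hW
    have hq : Topology.IsQuotientMap b := hbo.isQuotientMap hb hbs
    rw [← hq.isClosed_preimage, preimage_image_of_square a b f' f hc hs]
    exact hf' _ (hW.preimage ha)

theorem topDesc_injective : TopDesc.{u} (fun X Y _ _ f => Function.Injective f) where
  homeo := by
    intro X Y X' Y' _ _ _ _ hX hY f f' h hf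
    have : f' = hY ∘ f ∘ hX.symm := by
      funext x'
      have := h (hX.symm x')
      simpa using this
    rw [this]
    exact hY.injective.comp (hf.comp hX.symm.injective)
  desc := by
    intro X Y X' Y' _ _ _ _ a b f' f _ _ _ _ _ hbs _ hc hs hf' x₁ x₂ h12
    obtain ⟨y', hy'⟩ := hbs (f x₁)
    obtain ⟨x₁', rfl, h1⟩ := hs x₁ y' hy'.symm
    obtain ⟨x₂', rfl, h2⟩ := hs x₂ y' (h12 ▸ hy'.symm)
    rw [hf' (h1.trans h2.symm)]

lemma surjective_of_square (a : X' → X) (b : Y' → Y) (f' : X' → Y') (f : X → Y)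
    (hbs : Function.Surjective b) (hc : ∀ x', f (a x') = b (f' x'))
    (hf' : Function.Surjective f') : Function.Surjective f := by
  intro y
  obtain ⟨y', rfl⟩ := hbs y
  obtain ⟨x', rfl⟩ := hf' y'
  exact ⟨a x', hc x'⟩

theorem topDesc_isQuotientMap : TopDesc.{u} (fun X Y _ _ f => Topology.IsQuotientMap f) where
  homeo := by
    intro X Y X' Y' _ _ _ _ hX hY f f' h hf
    have : f' = hY ∘ f ∘ hX.symm := by
      funext x'
      have := h (hX.symm x')
      simpa using this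
    rw [this]
    exact hY.isQuotientMap.comp (hf.comp hX.symm.isQuotientMap)
  desc := by
    intro X Y X' Y' _ _ _ _ a b f' f ha _ _ hb hbo hbs hfc hc _ hf'
    have hq : Topology.IsQuotientMap b := hbo.isQuotientMap hb hbs
    refine ⟨Topology.isCoinducing_iff.2 fun W => ⟨fun hW => ?_, fun hW => hfc.isOpen_preimage W hW⟩,
      surjective_of_square a b f' f hbs hc hf'.surjective⟩
    rw [← hq.isOpen_preimage, ← hf'.isOpen_preimage]
    have : f' ⁻¹' (b ⁻¹' W) = a ⁻¹' (f ⁻¹' W) := by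
      ext x'
      simp only [Set.mem_preimage, hc]
    rw [this]
    exact ha.isOpen_preimage _ hW

theorem topDesc_isHomeomorph : TopDesc.{u} (fun X Y _ _ f => IsHomeomorph f) where
  homeo := by
    intro X Y X' Y' _ _ _ _ hX hY f f' h hf
    have : f' = hY ∘ f ∘ hX.symm := by
      funext x'
      have := h (hX.symm x')
      simpa using this
    rw [this]
    exact hY.isHomeomorph.comp (hf.comp hX.symm.isHomeomorph)
  desc := by
    intro X Y X' Y' _ _ _ _ a b f' f ha hao has hb hbo hbs hfc hc hs hf'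
    refine ⟨hfc, ?_, ?_, ?_⟩
    · exact topDesc_isOpenMap.desc a b f' f ha hao has hb hbo hbs hfc hc hs hf'.isOpenMap
    · exact topDesc_injective.desc a b f' f ha hao has hb hbo hbs hfc hc hs hf'.injective
    · exact surjective_of_square a b f' f hbs hc hf'.surjective

end Top

section Main

variable {S : Scheme.{u}}

/-- the property of morphisms of sheaves attached to a property of maps of spaces -/
abbrev QSp (Qt : TopProp.{u}) : MorphismProperty (AlgSp.Sp S) :=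
  fun _ _ a => Qt _ _ (AlgSp.Points.map a)

variable {𝒳 𝒴 : AlgSt.Cat S}

/-- equivalences are injective on points -/
lemma points_map_injective_of_isEquivOver {𝒜 ℬ : AlgSt.Cat S} (e : 𝒜 ⥤ᵇ ℬ)
    (he : FibCat.IsEquivOver e) : Function.Injective (AlgSt.Points.map e) := by
  obtain ⟨e', ⟨α⟩, -⟩ := he
  intro x x' h
  have h1 : ∀ x, AlgSt.Points.map e' (AlgSt.Points.map e x) = x := fun x => by
    rw [← points_map_comp, points_map_congr α, points_map_id]
  rw [← h1 x, h, h1]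

/-- **Descent along an atlas**: if `f` is representable by algebraic spaces with `UnivSp Qt`, then
`|f|` has `Qt`. -/
theorem qt_of_rep {Qt : TopProp.{u}} (hQ : TopDesc Qt)
    (h𝒳 : AlgSt.IsAlgStack Scheme.fppfPrecoverage 𝒳)
    (h𝒴 : AlgSt.IsAlgStack Scheme.fppfPrecoverage 𝒴) (f : 𝒳 ⥤ᵇ 𝒴)
    (hf : AlgSt.RepByAlgSpWith (AlgSp.UnivSp (QSp Qt)) f) : Qt _ _ (AlgSt.Points.map f) := by
  obtain ⟨V, z, hz₁, hz₂⟩ := h𝒴.atlas
  obtain ⟨G, e, he, hp⟩ := hf V z
  obtain ⟨p, hpdef⟩ : ∃ p, p = AlgSt.spMapOfOver (BasedFunctor.comp e (FibCat.fpFst z f)) := ⟨_, rfl⟩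
  rw [← hpdef] at hp
  have hQp : Qt _ _ (AlgSp.Points.map p) :=
    hp (AlgSp.IsAlgSpace.yon_obj V) (𝟙 _) (𝟙 _) p (IsPullback.of_horiz_isIso ⟨by simp⟩)
  obtain ⟨ι⟩ := projIso (BasedFunctor.comp e (FibCat.fpFst z f))
  rw [← hpdef] at ι
  have hX := h𝒳.isStack.1
  have hY := h𝒴.isStack.1
  have hV := isFibGrpd_overCat V
  -- the two charts
  obtain ⟨a₀, ha₀⟩ : ∃ a₀ : AlgSt.ofSp G.obj ⥤ᵇ 𝒳, a₀ = BasedFunctor.comp e (FibCat.fpSnd z f) :=
    ⟨_, rfl⟩
  obtain ⟨b₀, hb₀⟩ : ∃ b₀ : AlgSt.ofSp ((AlgSp.yon S).obj V) ⥤ᵇ 𝒴,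
    b₀ = BasedFunctor.comp (toOver V) z := ⟨_, rfl⟩
  have ha₁ : AlgSt.RepByAlgSpWith (AlgSp.LocP @Smooth) a₀ := by
    rw [ha₀]
    exact (repByAlgSpWith_comp_equiv_iff _ e he _).2 (repByAlgSpWith_fpSnd _ z f hz₁)
  have ha₂ : AlgSt.RepByAlgSpWith AlgSp.IsSurjectiveMor a₀ := by
    rw [ha₀]
    exact (repByAlgSpWith_comp_equiv_iff _ e he _).2 (repByAlgSpWith_fpSnd _ z f hz₂)
  have hb₁ : AlgSt.RepByAlgSpWith (AlgSp.LocP @Smooth) b₀ := by
    rw [hb₀]
    exact (repByAlgSpWith_comp_equiv_iff _ (toOver V) (isEquivOver_toOver V) z).2 hz₁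
  have hb₂ : AlgSt.RepByAlgSpWith AlgSp.IsSurjectiveMor b₀ := by
    rw [hb₀]
    exact (repByAlgSpWith_comp_equiv_iff _ (toOver V) (isEquivOver_toOver V) z).2 hz₂
  have flat_of := fun {𝒜 ℬ : AlgSt.Cat S} (w : 𝒜 ⥤ᵇ ℬ)
      (h : AlgSt.RepByAlgSpWith (AlgSp.LocP @Smooth) w) =>
    AlgStDiagLft.repByAlgSpWith_mono (AlgStDiagLft.locP_mono AlgStDiagLft.smooth_le_flat) h
  have lfp_of := fun {𝒜 ℬ : AlgSt.Cat S} (w : 𝒜 ⥤ᵇ ℬ)
      (h : AlgSt.RepByAlgSpWith (AlgSp.LocP @Smooth) w) =>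
    AlgStDiagLft.repByAlgSpWith_mono (AlgStDiagLft.locP_mono AlgStDiagLft.smooth_le_lfp) h
  let yV : AlgSp.Space S := ⟨(AlgSp.yon S).obj V, AlgSp.IsAlgSpace.yon_obj V⟩
  refine hQ.desc (fun x' => AlgSt.Points.map a₀ (ptOf x')) (fun y' => AlgSt.Points.map b₀ (ptOf y'))
    (AlgSp.Points.map p) (AlgSt.Points.map f) ?_ ?_ ?_ ?_ ?_ ?_ (continuous_points_map h𝒴 f) ?_ ?_ hQp
  · exact (continuous_points_map h𝒳 a₀).comp (continuous_ptOf G)
  · exact (isOpenMap_points_map_space hX G a₀ (flat_of a₀ ha₁) (lfp_of a₀ ha₁)).comp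
      (isOpenMap_ptOf G.obj)
  · exact (isSurjective_of_rep hX a₀ ha₂).comp ptOf_surjective
  · exact (continuous_points_map h𝒴 b₀).comp (continuous_ptOf yV)
  · exact (isOpenMap_points_map_space hY yV b₀ (flat_of b₀ hb₁) (lfp_of b₀ hb₁)).comp
      (isOpenMap_ptOf yV.obj)
  · exact (isSurjective_of_rep hY b₀ hb₂).comp ptOf_surjective
  · intro x'
    show AlgSt.Points.map f (AlgSt.Points.map a₀ (ptOf x')) =
      AlgSt.Points.map b₀ (ptOf (AlgSp.Points.map p x'))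
    rw [ptOf_map, ha₀, hb₀, ← points_map_comp, ← points_map_comp]
    have i1 : BasedFunctor.comp (BasedFunctor.comp e (FibCat.fpSnd z f)) f ≅
        BasedFunctor.comp (BasedFunctor.comp e (FibCat.fpFst z f)) z :=
      whiskerL e (FibCat.fpIso z f).symm
    have i2 : BasedFunctor.comp (BasedFunctor.comp e (FibCat.fpFst z f)) z ≅
        BasedFunctor.comp (AlgSt.ofSpMap p) (BasedFunctor.comp (toOver V) z) :=
      whiskerR ι z
    exact points_map_congr (i1 ≪≫ i2) (ptOf x')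
  · intro x y' hxy
    have hxy' : AlgSt.Points.map z (AlgSt.Points.map (toOver V) (ptOf y')) = AlgSt.Points.map f x := by
      rw [← points_map_comp, ← hb₀]
      exact hxy.symm
    obtain ⟨w, hw1, hw2⟩ := exists_point_fp hX hY hV f z _ x hxy'
    obtain ⟨w', rfl⟩ := isSurjective_of_isEquivOver e he w
    obtain ⟨x', rfl⟩ := ptOf_surjective w'
    refine ⟨x', ?_, ?_⟩
    · show AlgSt.Points.map a₀ (ptOf x') = x
      rw [ha₀, points_map_comp]
      exact hw2
    · apply ptOf_injective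
      apply points_map_injective_of_isEquivOver (toOver V) (isEquivOver_toOver V)
      rw [← hw1, ptOf_map, ← points_map_comp]
      have h3 : AlgSt.Points.map (projOf p.hom) (ptOf x') =
          AlgSt.Points.map (toOver V) (AlgSt.Points.map (AlgSt.ofSpMap p) (ptOf x')) :=
        points_map_comp (AlgSt.ofSpMap p) (toOver V) (ptOf x')
      exact h3.symm.trans (points_map_congr ι (ptOf x')).symm

/-- **Base change of a representable morphism along a morphism from a sheaf**: for a pullback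
square of sheaves over the projection `F ⟶ h_U` of `(Sch/U) ×_𝒴 𝒳 ≃ ofSp F`, the category of the
pullback is the 2-fibre product. -/
theorem exists_equiv_fp_space (f : 𝒳 ⥤ᵇ 𝒴) {U : Over S} (y : FibCat.overCat U ⥤ᵇ 𝒴)
    (F : AlgSp.Sp S) (e : AlgSt.ofSp F ⥤ᵇ FibCat.fp y f) (he : FibCat.IsEquivOver e)
    {Z Z' : AlgSp.Sp S} (g : Z ⟶ (AlgSp.yon S).obj U) (fst : Z' ⟶ F) (snd : Z' ⟶ Z)
    (sq : IsPullback fst snd (AlgSt.spMapOfOver (BasedFunctor.comp e (FibCat.fpFst y f))) g) :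
    ∃ E : AlgSt.ofSp Z' ⥤ᵇ
        FibCat.fp (BasedFunctor.comp (BasedFunctor.comp (AlgSt.ofSpMap g) (RepBridge.toOver U)) y) f,
      FibCat.IsEquivOver E ∧ BasedFunctor.comp E (FibCat.fpFst _ f) = AlgSt.ofSpMap snd := by
  obtain ⟨p, hpdef⟩ : ∃ p, p = AlgSt.spMapOfOver (BasedFunctor.comp e (FibCat.fpFst y f)) := ⟨_, rfl⟩
  rw [← hpdef] at sq
  obtain ⟨ι⟩ := projIso (BasedFunctor.comp e (FibCat.fpFst y f))
  rw [← hpdef] at ι
  have sq' : IsPullback fst.hom snd.hom p.hom g.hom :=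
    sq.map (sheafToPresheaf (AlgSp.J S) (Type (u + 1)))
  have h1 : FibCat.IsEquivOver (FibCat.fpLift (Stk.ofPshMap snd.hom) (Stk.ofPshMap fst.hom)
      (sqE sq'.w)) := isTwoCartOver_of_isPullback sq'
  obtain ⟨tU, htU⟩ : ∃ tU : AlgSt.ofSp ((AlgSp.yon S).obj U) ⥤ᵇ FibCat.overCat U,
    tU = RepBridge.toOver U := ⟨_, rfl⟩
  have htUe : FibCat.IsEquivOver tU := htU ▸ isEquivOver_toOver U
  have hfull : tU.toFunctor.Full := ((X5139 _).1 htUe).1.1
  have hfaith : tU.toFunctor.Faithful := ((X5139 _).1 htUe).1.2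
  rw [← htU]
  let c : AlgSt.ofSp Z ⥤ᵇ FibCat.overCat U := BasedFunctor.comp (AlgSt.ofSpMap g) tU
  let α : BasedFunctor.comp (AlgSt.ofSpMap g) tU ≅ BasedFunctor.comp (BasedFunctor.id _) c :=
    Iso.refl _
  let β : BasedFunctor.comp (AlgSt.ofSpMap p) tU ≅
      BasedFunctor.comp e (FibCat.fpFst y f) := htU ▸ ι.symm
  let M := fpMap (F' := AlgSt.ofSpMap g) (G' := AlgSt.ofSpMap p) (F := c) (G := FibCat.fpFst y f)
    (BasedFunctor.id _) e tU α β
  have hM : FibCat.IsEquivOver M := isEquivOver_fpMap _ _ _ α β isEquivOver_id he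
  refine ⟨BasedFunctor.comp (BasedFunctor.comp (FibCat.fpLift (Stk.ofPshMap snd.hom)
    (Stk.ofPshMap fst.hom) (sqE sq'.w)) M) (pasteL c y f),
    isEquivOver_comp _ _ (isEquivOver_comp _ _ h1 hM) (isEquivOver_pasteL c y f), ?_⟩
  apply basedFunctor_ext
  rfl

/-- if every base change of `f` to an algebraic stack has `Qt` on points, then `f` is
representable by algebraic spaces with `UnivSp Qt` -/
theorem rep_of_forall {Qt : TopProp.{u}} (hQ : TopDesc Qt)
    (h𝒳 : AlgSt.IsAlgStack Scheme.fppfPrecoverage 𝒳)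
    (h𝒴 : AlgSt.IsAlgStack Scheme.fppfPrecoverage 𝒴) (f : 𝒳 ⥤ᵇ 𝒴) (hf : AlgSt.RepByAlgSp1 f)
    (H : ∀ (𝒵 : AlgSt.Cat S), AlgSt.IsAlgStack Scheme.fppfPrecoverage 𝒵 → ∀ (g : 𝒵 ⥤ᵇ 𝒴),
      Qt _ _ (AlgSt.Points.map (FibCat.fpFst g f))) :
    AlgSt.RepByAlgSpWith (AlgSp.UnivSp (QSp Qt)) f := by
  intro U y
  obtain ⟨F, e, he⟩ := hf U y
  refine ⟨F, e, he, ?_⟩
  intro Z Z' hZ g fst snd sq
  have hZ' : AlgSp.IsAlgSpace Z' :=
    Groth.Agent.H5.AlgSp.isAlgSpace_pullback (AlgSp.IsAlgSpace.yon_obj U).diag F.property hZ sq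
  obtain ⟨g', E, hE, hEs⟩ : ∃ (g' : AlgSt.ofSp Z ⥤ᵇ 𝒴) (E : AlgSt.ofSp Z' ⥤ᵇ FibCat.fp g' f),
      FibCat.IsEquivOver E ∧ BasedFunctor.comp E (FibCat.fpFst g' f) = AlgSt.ofSpMap snd := by
    obtain ⟨E, hE, hEs⟩ := exists_equiv_fp_space f y F.obj e he g fst snd sq
    exact ⟨_, E, hE, hEs⟩
  have hZst := isAlgStack_ofSp ⟨Z, hZ⟩
  have hZ'st := isAlgStack_ofSp ⟨Z', hZ'⟩
  have hfp : AlgSt.IsAlgStack Scheme.fppfPrecoverage (FibCat.fp g' f) :=
    AlgStAlgebraic.isAlgStack_fp h𝒴.isStack h𝒴.diag hZst h𝒳 g' f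
  have hq := H _ hZst g'
  have hEh := isHomeomorph_of_isEquivOver hZ'st hfp E hE
  let hX' : AlgSp.Points Z' ≃ₜ AlgSt.Points (FibCat.fp g' f) :=
    (ptHomeo ⟨Z', hZ'⟩).trans hEh.homeomorph
  let hY' : AlgSp.Points Z ≃ₜ AlgSt.Points (AlgSt.ofSp Z) := ptHomeo ⟨Z, hZ⟩
  refine hQ.homeo hX'.symm hY'.symm _ _ ?_ hq
  intro x
  obtain ⟨x', rfl⟩ := hX'.surjective x
  rw [Homeomorph.symm_apply_apply]
  apply hY'.injective
  rw [Homeomorph.apply_symm_apply]
  show ptOf (AlgSp.Points.map snd x') =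
    AlgSt.Points.map (FibCat.fpFst g' f) (AlgSt.Points.map E (ptOf x'))
  rw [ptOf_map, ← points_map_comp, hEs]

/-- **Main theorem**: for `f` representable by algebraic spaces between algebraic stacks and a
property `Qt` of maps of spaces that descends, `f` is representable by algebraic spaces with
"universally `Qt`" iff all its base changes to algebraic stacks have `Qt` on points. -/
theorem rep_univSp_iff {Qt : TopProp.{u}} (hQ : TopDesc Qt)
    (h𝒳 : AlgSt.IsAlgStack Scheme.fppfPrecoverage 𝒳)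
    (h𝒴 : AlgSt.IsAlgStack Scheme.fppfPrecoverage 𝒴) (f : 𝒳 ⥤ᵇ 𝒴) (hf : AlgSt.RepByAlgSp1 f) :
    AlgSt.RepByAlgSpWith (AlgSp.UnivSp (QSp Qt)) f ↔
      ∀ (𝒵 : AlgSt.Cat S), AlgSt.IsAlgStack Scheme.fppfPrecoverage 𝒵 → ∀ (g : 𝒵 ⥤ᵇ 𝒴),
        Qt _ _ (AlgSt.Points.map (FibCat.fpFst g f)) := by
  constructor
  · intro h 𝒵 h𝒵 g
    exact qt_of_rep hQ (AlgStAlgebraic.isAlgStack_fp h𝒴.isStack h𝒴.diag h𝒵 h𝒳 g f) h𝒵
      (FibCat.fpFst g f) (repByAlgSpWith_fpFst _ f g h)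
  · exact rep_of_forall hQ h𝒳 h𝒴 f hf

end Main

end Groth.Agent.H3.AlgStPoints
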